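import Mathlib
import Cfsg.Agent.Lib.AutPSL.Kernel

/-!
Facts on automorphisms of `PSL₂(q)`, `q` odd: inner, diagonal and involutory field automorphisms.
-/

set_option autoImplicit false

namespace CfsgLib.DGroup

open Matrix CfsgLib.AutPSL

variable {F : Type*} [Field F]

/-- `!![0, 1; -1, 0]` in `SL₂`. -/
def quarter : SLG 2 F := ⟨!![0, 1; -1, 0], by simp [Matrix.det_fin_two]⟩

theorem quarter_coe : (quarter : SLG 2 F).1 = !![0, 1; -1, 0] := rfl

theorem iotaAut_two : (iotaAut : MulAut (PSLG 2 F)) = conjAut (SpecialLinearGroup.toGL quarter) := by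
  apply MulEquiv.ext
  intro x
  induction x using QuotientGroup.induction_on with
  | H s =>
    rw [iotaAut_mk, conjAut_mk]
    refine congrArg _ (Subtype.ext ?_)
    rw [slIota_coe, slConj_coe, ← map_inv]
    show (s.1.adjugate)ᵀ = (quarter : SLG 2 F).1 * s.1 * (quarter : SLG 2 F).1.adjugate
    rw [quarter_coe]
    ext i j
    fin_cases i <;> fin_cases j <;> simp [Matrix.adjugate_fin_two, Matrix.mul_apply, Matrix.vecMul, dotProduct, Fin.sum_univ_two]

theorem exists_conj_field [Fintype F] (β : MulAut (PSLG 2 F)) :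
    ∃ (g : GL (Fin 2) F) (σ : F ≃+* F), β = conjAut g * fieldAut σ := by
  obtain ⟨g, σ, h | h⟩ := aut_psl_structure le_rfl β
  · exact ⟨g, σ, h⟩
  · refine ⟨g * glField σ (SpecialLinearGroup.toGL quarter), σ, ?_⟩
    rw [h, iotaAut_two, mul_assoc, fieldAut_mul_conjAut, map_mul, mul_assoc]

theorem conjAut_toGL (s : SLG 2 F) :
    conjAut (SpecialLinearGroup.toGL s) = MulAut.conj (QuotientGroup.mk s : PSLG 2 F) := by
  apply MulEquiv.ext
  intro x
  induction x using QuotientGroup.induction_on with
  | H t =>
    rw [conjAut_mk, MulAut.conj_apply, ← QuotientGroup.mk_inv, ← QuotientGroup.mk_mul,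
      ← QuotientGroup.mk_mul]
    refine congrArg _ (Subtype.ext ?_)
    rw [slConj_coe, ← map_inv]
    rfl

theorem det_toGL (s : SLG 2 F) : (SpecialLinearGroup.toGL s).val.det = 1 := s.2

theorem det_scalar (u : Fˣ) :
    (GeneralLinearGroup.scalar (Fin 2) u).val.det = (u : F) * u := by
  rw [GeneralLinearGroup.coe_scalar, Matrix.scalar_apply, Matrix.det_diagonal, Fin.prod_univ_two]

theorem det_ne_zero (g : GL (Fin 2) F) : g.val.det ≠ 0 :=
  (Matrix.GeneralLinearGroup.det g).ne_zero

/-- An automorphism `conjAut g` with square determinant is inner. -/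
theorem exists_conj_of_isSquare {g : GL (Fin 2) F} (h : IsSquare g.val.det) :
    ∃ x : PSLG 2 F, conjAut g = MulAut.conj x := by
  obtain ⟨r, hr⟩ := h
  have hr0 : r ≠ 0 := fun h0 => det_ne_zero g (by rw [hr, h0, mul_zero])
  set u : Fˣ := Units.mk0 r hr0
  set h' := (GeneralLinearGroup.scalar (Fin 2) u)⁻¹ * g with hh'
  have hdet : h'.val.det = 1 := by
    rw [hh', ← map_inv, Units.val_mul, Matrix.det_mul, det_scalar, hr]
    simp only [Units.val_inv_eq_inv_val, u, Units.val_mk0]
    field_simp
  obtain ⟨t, ht⟩ : ∃ t : SLG 2 F, SpecialLinearGroup.toGL t = h' := ⟨⟨h'.val, hdet⟩, Units.ext rfl⟩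
  refine ⟨QuotientGroup.mk t, ?_⟩
  rw [← conjAut_toGL, ht, hh', map_mul, map_inv, conjAut_scalar, inv_one, one_mul]

/-- An inner automorphism has square determinant. -/
theorem isSquare_of_conj {g : GL (Fin 2) F} {x : PSLG 2 F} (h : conjAut g = MulAut.conj x) :
    IsSquare g.val.det := by
  induction x using QuotientGroup.induction_on with
  | H s =>
    rw [← conjAut_toGL] at h
    obtain ⟨u, hu⟩ := (conjAut_eq_one_iff le_rfl).1
      (show conjAut ((SpecialLinearGroup.toGL s)⁻¹ * g) = 1 by
        rw [map_mul, map_inv, h, inv_mul_cancel])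
    refine ⟨u, ?_⟩
    rw [eq_mul_of_inv_mul_eq hu, Units.val_mul, Matrix.det_mul, det_toGL, one_mul, det_scalar]

theorem field_eq_of_mul_conj {g h : GL (Fin 2) F} {σ : F ≃+* F}
    (e : conjAut g * fieldAut σ = conjAut h) : σ = 1 :=
  (eq_of_conj_field_eq_one le_rfl (g := h⁻¹ * g) (σ := σ)
    (by rw [map_mul, map_inv, mul_assoc, e, inv_mul_cancel])).1

theorem det_glField (σ : F ≃+* F) (g : GL (Fin 2) F) :
    (glField σ g).val.det = σ g.val.det := by
  rw [glField_coe, det_map_ringEquiv]

/-- Conjugating `conjAut g` by an automorphism. -/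
theorem conj_conjAut (k g : GL (Fin 2) F) (σ : F ≃+* F) :
    conjAut k * fieldAut σ * conjAut g * (conjAut k * fieldAut σ)⁻¹ =
      conjAut (k * glField σ g * k⁻¹) := by
  rw [map_mul, map_mul, map_inv, mul_assoc (conjAut k), fieldAut_mul_conjAut]
  group

section Finite

variable [Fintype F]

theorem ringChar_ne_two (hF : (2 : F) ≠ 0) : ringChar F ≠ 2 := by
  intro h
  exact hF (by simpa [h] using ringChar.Nat.cast_ringChar (R := F))

/-- The product of two nonsquares is a square. -/
theorem isSquare_mul (hF : (2 : F) ≠ 0) {a b : F} (ha0 : a ≠ 0) (hb0 : b ≠ 0)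
    (ha : ¬ IsSquare a) (hb : ¬ IsSquare b) : IsSquare (a * b) := by
  have hc := ringChar_ne_two hF
  rw [FiniteField.isSquare_iff hc (mul_ne_zero ha0 hb0), mul_pow,
    (FiniteField.pow_dichotomy hc ha0).resolve_left fun h => ha ((FiniteField.isSquare_iff hc ha0).2 h),
    (FiniteField.pow_dichotomy hc hb0).resolve_left fun h => hb ((FiniteField.isSquare_iff hc hb0).2 h)]
  norm_num

/-- The fixed points of an involutory field automorphism are squares. -/
theorem fixed_isSquare (hF : (2 : F) ≠ 0) {σ : F ≃+* F} (hσ2 : σ * σ = 1) (hσ : σ ≠ 1) {x : F}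
    (hx : σ x = x) : IsSquare x := by
  classical
  rcases eq_or_ne x 0 with rfl | hx0
  · exact ⟨0, by simp⟩
  obtain ⟨w, hw⟩ : ∃ w, σ w ≠ w := by
    by_contra h
    push Not at h
    exact hσ (RingEquiv.ext h)
  have hss : ∀ z, σ (σ z) = z := fun z => RingEquiv.congr_fun hσ2 z
  set β := w - σ w with hβdef
  have hβ0 : β ≠ 0 := sub_ne_zero.2 (Ne.symm hw)
  have hβσ : σ β = -β := by rw [hβdef, map_sub, hss]; ring
  let K := {z : F // σ z = z}
  have h2σ : σ (2 : F) = 2 := map_ofNat σ 2
  let e : F ≃ K × K :=
    { toFun := fun z => (⟨(z + σ z) / 2, by rw [map_div₀, map_add, hss, h2σ]; ring⟩,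
        ⟨(z - σ z) / (2 * β), by rw [map_div₀, map_sub, hss, map_mul, h2σ, hβσ]; field_simp; ring⟩)
      invFun := fun p => p.1.1 + p.2.1 * β
      left_inv := fun z => by simp only; field_simp; ring
      right_inv := fun p => by
        obtain ⟨⟨a, ha⟩, ⟨b, hb⟩⟩ := p
        simp only [Prod.mk.injEq, Subtype.mk.injEq]
        constructor <;> (apply Subtype.ext; simp only [map_add, map_mul, ha, hb, hβσ]; field_simp; ring) }
  have hq : Fintype.card F = Fintype.card K * Fintype.card K := by
    rw [Fintype.card_congr e, Fintype.card_prod]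
  set n := Fintype.card K with hn
  -- the fixed points form a subfield
  let L : Subfield F :=
    { carrier := {z | σ z = z}
      mul_mem' := fun {a b} (ha : σ a = a) (hb : σ b = b) => show σ (a * b) = a * b by
        rw [map_mul, ha, hb]
      one_mem' := map_one σ
      add_mem' := fun {a b} (ha : σ a = a) (hb : σ b = b) => show σ (a + b) = a + b by
        rw [map_add, ha, hb]
      zero_mem' := map_zero σ
      neg_mem' := fun {a} (ha : σ a = a) => show σ (-a) = -a by rw [map_neg, ha]
      inv_mem' := fun a (ha : σ a = a) => show σ a⁻¹ = a⁻¹ by rw [map_inv₀, ha] }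
  have hLn : Fintype.card L = n := Fintype.card_congr (Equiv.refl _)
  have hpow : x ^ (n - 1) = 1 := by
    have := FiniteField.pow_card_sub_one_eq_one (⟨x, hx⟩ : L) fun h => hx0 (congrArg Subtype.val h)
    rw [hLn] at this
    exact congrArg Subtype.val this
  have hodd : Odd n := by
    by_contra h
    rw [Nat.not_odd_iff_even] at h
    have h1 := FiniteField.odd_card_of_char_ne_two (ringChar_ne_two hF)
    rw [hq] at h1
    exact absurd h1 (by rw [Nat.even_iff.1 (h.mul_right n)]; norm_num)
  rw [FiniteField.isSquare_iff (ringChar_ne_two hF) hx0, hq]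
  obtain ⟨m, hm⟩ := hodd
  have e1 : n * n / 2 = (n - 1) * (m + 1) := by
    rw [hm, show 2 * m + 1 - 1 = 2 * m by omega,
      show (2 * m + 1) * (2 * m + 1) = 2 * (2 * m * (m + 1)) + 1 by ring]
    omega
  rw [e1, pow_mul, hpow, one_pow]

theorem involution_field {g : GL (Fin 2) F} {σ : F ≃+* F}
    (h : conjAut g * fieldAut σ * (conjAut g * fieldAut σ) = 1) :
    σ * σ = 1 ∧ ∃ u : Fˣ, g * glField σ g = GeneralLinearGroup.scalar (Fin 2) u := by
  refine eq_of_conj_field_eq_one le_rfl ?_
  rw [map_mul, map_mul, ← h, ← mul_assoc (conjAut g * fieldAut σ), mul_assoc (conjAut g) (fieldAut σ),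
    fieldAut_mul_conjAut]
  group

/-- Involutions in `PΓL₂ \ PGL₂` have square determinant. -/
theorem isSquare_det_of_involution (hF : (2 : F) ≠ 0) {g : GL (Fin 2) F} {σ : F ≃+* F}
    (hσ : σ ≠ 1) (h : conjAut g * fieldAut σ * (conjAut g * fieldAut σ) = 1) :
    IsSquare g.val.det := by
  obtain ⟨hσ2, u, hu⟩ := involution_field h
  have hss : ∀ z, σ (σ z) = z := fun z => RingEquiv.congr_fun hσ2 z
  have hgg : glField σ (glField σ g) = g :=
    Units.ext (Matrix.ext fun i j => hss (g.val i j))
  have h1 : glField σ g * g = GeneralLinearGroup.scalar (Fin 2) u := by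
    calc glField σ g * g = g⁻¹ * (g * glField σ g) * g := by group
      _ = _ := by rw [hu, mul_assoc, scalar_mul_comm, inv_mul_cancel_left]
  have h2 : glField σ g * g =
      GeneralLinearGroup.scalar (Fin 2) (Units.map σ.toMonoidHom u) := by
    have := congrArg (glField σ) hu
    rwa [map_mul, hgg, glField_scalar] at this
  have hu' : σ (u : F) = u := by
    have := congrArg (fun k : GL (Fin 2) F => k.val 0 0) (h2.symm.trans h1)
    simpa using this
  set d := g.val.det with hd
  have hd0 : d ≠ 0 := det_ne_zero g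
  have hdd : d * σ d = (u : F) * u := by
    have := congrArg (fun k : GL (Fin 2) F => k.val.det) hu
    simp only [Units.val_mul, Matrix.det_mul, det_glField] at this
    rw [this, ← det_scalar]
  have hu0 : (u : F) ≠ 0 := u.ne_zero
  set w := (u : F) / d with hw
  have hσw : σ w = d / u := by
    rw [hw, map_div₀, hu', div_eq_div_iff ((map_ne_zero σ).2 hd0) hu0, hdd]
  by_cases hw1 : 1 + w = 0
  · refine fixed_isSquare hF hσ2 hσ ?_
    have e : d = -u := by
      rw [hw] at hw1
      field_simp at hw1
      linear_combination hw1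
    rw [e, map_neg, hu']
  · set y := 1 + w with hy
    have hσy : σ y = 1 + d / u := by rw [hy, map_add, map_one, hσw]
    have e : d = ((u : F) * σ y * y) / (y * y) := by
      rw [hσy, hy, hw]
      rw [hy, hw] at hw1
      have h2 : d + (u : F) ≠ 0 := fun h => hw1 (by field_simp; linear_combination h)
      field_simp
      ring
    rw [e]
    refine IsSquare.div (fixed_isSquare hF hσ2 hσ ?_) ⟨y, rfl⟩
    rw [map_mul, map_mul, hu', hss]
    ring

theorem exists_four_fixed (hF : (2 : F) ≠ 0) (σ : F ≃+* F) :
    ∃ a b : PSLG 2 F, a ≠ 1 ∧ b ≠ 1 ∧ a ≠ b ∧ a * a = 1 ∧ b * b = 1 ∧ a * b = b * a ∧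
      fieldAut σ a = a ∧ fieldAut σ b = b := by
  have : Fact (ringChar F).Prime :=
    ⟨(CharP.char_is_prime_or_zero F (ringChar F)).resolve_right fun h =>
      CharP.ringChar_ne_zero_of_finite F h⟩
  haveI : NeZero (ringChar F) := ⟨(Fact.out : (ringChar F).Prime).ne_zero⟩
  obtain ⟨p, q, hpq⟩ := CharP.sq_add_sq F (ringChar F) (-1)
  push_cast at hpq
  set h : SLG 2 F := ⟨!![(p : F), (q : F); (q : F), -(p : F)], by
    rw [Matrix.det_fin_two]; simp; linear_combination -hpq⟩ with hh
  have negmem : (-1 : SLG 2 F) ∈ Subgroup.center (SLG 2 F) := by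
    rw [Subgroup.mem_center_iff]
    intro t; ext1; simp
  have mk_neg : (QuotientGroup.mk (-1 : SLG 2 F) : PSLG 2 F) = 1 :=
    (QuotientGroup.eq_one_iff _).2 negmem
  have sq : ∀ s : SLG 2 F, s * s = -1 → (QuotientGroup.mk s : PSLG 2 F) * QuotientGroup.mk s = 1 :=
    fun s hs => by rw [← QuotientGroup.mk_mul, hs, mk_neg]
  have hcoe : h.1 = !![(p : F), (q : F); (q : F), -(p : F)] := rfl
  have hi : quarter * quarter = (-1 : SLG 2 F) := by
    ext i j
    fin_cases i <;> fin_cases j <;>
      simp [SpecialLinearGroup.coe_mul, quarter_coe, Matrix.mul_apply, Fin.sum_univ_two]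
  have hh2 : h * h = -1 := by
    ext i j
    fin_cases i <;> fin_cases j <;>
      simp [SpecialLinearGroup.coe_mul, hcoe, Matrix.mul_apply, Fin.sum_univ_two] <;>
      first | linear_combination hpq | linear_combination -hpq | ring
  have hanti : quarter * h = -1 * (h * quarter) := by
    ext i j
    fin_cases i <;> fin_cases j <;>
      simp [SpecialLinearGroup.coe_mul, hcoe, quarter_coe, Matrix.mul_apply, Fin.sum_univ_two]
  have ne1 : ∀ s t : SLG 2 F, s * t = -1 * (t * s) → (QuotientGroup.mk s : PSLG 2 F) ≠ 1 := by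
    intro s t hst hs
    rw [QuotientGroup.eq_one_iff] at hs
    have e := Subgroup.mem_center_iff.1 hs t
    rw [e] at hst
    have h1 : (1 : SLG 2 F) = -1 := mul_right_cancel ((one_mul (s * t)).trans hst)
    have := congrArg (fun k : SLG 2 F => k.1 0 0) h1
    simp at this
    exact hF (by linear_combination this)
  refine ⟨QuotientGroup.mk quarter, QuotientGroup.mk h, ne1 _ _ hanti, ne1 h quarter ?_, ?_,
    sq _ hi, sq _ hh2, ?_, ?_, ?_⟩
  · rw [hanti, ← mul_assoc, ← mul_assoc]; simp
  · intro e
    rw [QuotientGroup.eq] at e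
    -- `quarter⁻¹ * h` would be central
    have e' := Subgroup.mem_center_iff.1 e quarter
    have : h * quarter = quarter * h := by
      calc h * quarter = quarter * (quarter⁻¹ * h * quarter) := by group
        _ = quarter * (quarter * (quarter⁻¹ * h)) := by rw [e']
        _ = quarter * h := by group
    rw [this] at hanti
    have h1 : (1 : SLG 2 F) = -1 := mul_right_cancel ((one_mul (quarter * h)).trans hanti)
    have := congrArg (fun k : SLG 2 F => k.1 0 0) h1
    simp at this
    exact hF (by linear_combination this)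
  · rw [← QuotientGroup.mk_mul, ← QuotientGroup.mk_mul, hanti, QuotientGroup.mk_mul, mk_neg, one_mul]
  · rw [fieldAut_mk]
    refine congrArg _ (Subtype.ext ?_)
    rw [slField_coe]
    ext i j; fin_cases i <;> fin_cases j <;> simp [quarter]
  · rw [fieldAut_mk]
    refine congrArg _ (Subtype.ext ?_)
    rw [slField_coe]
    ext i j; fin_cases i <;> fin_cases j <;> simp [hh]

/-- The centralizer in `PGL₂(q)` of an outer involution has more than four elements. -/
theorem five_commuting (hF : (2 : F) ≠ 0) (h3 : 3 < Fintype.card F) {g : GL (Fin 2) F}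
    (hg : ¬ IsSquare g.val.det) (h : conjAut g * conjAut g = 1) :
    ∃ f : Fin 5 → GL (Fin 2) F, Function.Injective (fun i => conjAut (f i)) ∧
      ∀ i, Commute (conjAut (f i)) (conjAut g) := by
  classical
  rw [← map_mul] at h
  obtain ⟨u, hu⟩ := (conjAut_eq_one_iff le_rfl).1 h
  have hns : ∀ r : F, g.val ≠ Matrix.scalar (Fin 2) r := by
    intro r e
    apply hg
    rw [e, Matrix.scalar_apply, Matrix.det_diagonal, Fin.prod_univ_two]
    exact ⟨r, rfl⟩
  have hu' : g.val * g.val = Matrix.scalar (Fin 2) (u : F) := by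
    rw [← Units.val_mul, hu, GeneralLinearGroup.coe_scalar]
  have htr : g.val 0 0 + g.val 1 1 = 0 := by
    by_contra hne
    have e01 := congrFun (congrFun hu' 0) 1
    have e10 := congrFun (congrFun hu' 1) 0
    have e00 := congrFun (congrFun hu' 0) 0
    have e11 := congrFun (congrFun hu' 1) 1
    simp [Matrix.mul_apply, Fin.sum_univ_two] at e00 e01 e10 e11
    have b0 : g.val 0 1 = 0 := by
      have : (g.val 0 0 + g.val 1 1) * g.val 0 1 = 0 := by linear_combination e01
      exact (mul_eq_zero.1 this).resolve_left hne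
    have c0 : g.val 1 0 = 0 := by
      have : (g.val 0 0 + g.val 1 1) * g.val 1 0 = 0 := by linear_combination e10
      exact (mul_eq_zero.1 this).resolve_left hne
    have : (g.val 0 0 + g.val 1 1) * (g.val 0 0 - g.val 1 1) = 0 := by
      linear_combination e00 - e11
    have had := sub_eq_zero.1 ((mul_eq_zero.1 this).resolve_left hne)
    refine hns (g.val 0 0) ?_
    ext i j; fin_cases i <;> fin_cases j <;> simp [b0, c0, ← had]
  set G' : F → Matrix (Fin 2) (Fin 2) F := fun a => g.val + Matrix.scalar (Fin 2) a with hG'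
  have hdetG : ∀ a, (G' a).det = a * a + g.val.det := by
    intro a
    simp [hG', Matrix.det_fin_two]
    linear_combination a * htr
  set good : Finset F := Finset.univ.filter (fun a => a * a + g.val.det ≠ 0) with hgood
  have hgoodcard : 4 ≤ good.card := by
    by_cases hr : ∃ r, r * r + g.val.det = 0
    · obtain ⟨r, hr⟩ := hr
      have hneg : ¬ IsSquare (-1 : F) := by
        rintro ⟨i, hi⟩
        exact hg ⟨i * r, by linear_combination hr + (r * r) * hi⟩
      have h4 : Fintype.card F % 4 = 3 := by
        by_contra h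
        exact hneg (FiniteField.isSquare_neg_one_iff.2 h)
      have hsub : Finset.univ \ {r, -r} ⊆ good := by
        intro a ha
        simp only [Finset.mem_sdiff, Finset.mem_univ, true_and, Finset.mem_insert,
          Finset.mem_singleton, not_or] at ha
        rw [hgood, Finset.mem_filter]
        refine ⟨Finset.mem_univ _, fun h => ?_⟩
        rcases mul_eq_zero.1 (show (a - r) * (a + r) = 0 by linear_combination h - hr) with e | e
        · exact ha.1 (sub_eq_zero.1 e)
        · exact ha.2 (eq_neg_of_add_eq_zero_left e)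
      have := (Finset.card_le_card hsub)
      rw [Finset.card_sdiff_of_subset (Finset.subset_univ _), Finset.card_univ] at this
      have := Finset.card_le_two (a := r) (b := -r)
      omega
    · push Not at hr
      rw [hgood, Finset.filter_true_of_mem fun a _ => hr a, Finset.card_univ]
      omega
  obtain ⟨t, ht, htc⟩ := Finset.exists_subset_card_eq hgoodcard
  let ι := t.equivFinOfCardEq htc
  let mkG : t → GL (Fin 2) F := fun a =>
    GeneralLinearGroup.mkOfDetNeZero (G' a) (by
      rw [hdetG]
      exact (Finset.mem_filter.1 (ht a.2)).2)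
  refine ⟨Fin.cons 1 (fun i => mkG (ι.symm i)), ?_, ?_⟩
  · have hscal : ∀ (a : t) (r : F), (mkG a).val ≠ Matrix.scalar (Fin 2) r := by
      intro a r e
      refine hns (r - (a : F)) ?_
      rw [map_sub, ← e]
      exact (add_sub_cancel_right _ _).symm
    have hone : ∀ a : t, conjAut (mkG a) ≠ 1 := by
      intro a e
      obtain ⟨v, hv⟩ := (conjAut_eq_one_iff le_rfl).1 e
      exact hscal a v (by rw [hv, GeneralLinearGroup.coe_scalar])
    intro i j
    refine Fin.cases ?_ ?_ i
    · refine Fin.cases (fun _ => rfl) (fun j e => ?_) j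
      simp only [Fin.cons_zero, Fin.cons_succ, map_one] at e
      exact absurd e.symm (hone _)
    · intro i
      refine Fin.cases (fun e => ?_) (fun j e => ?_) j
      · simp only [Fin.cons_zero, Fin.cons_succ, map_one] at e
        exact absurd e (hone _)
      · simp only [Fin.cons_succ] at e
        obtain ⟨v, hv⟩ := (conjAut_eq_one_iff le_rfl).1
          (show conjAut ((mkG (ι.symm j))⁻¹ * mkG (ι.symm i)) = 1 by
            rw [map_mul, map_inv, e, inv_mul_cancel])
        have hv' := congrArg (fun k : GL (Fin 2) F => k.val) (eq_mul_of_inv_mul_eq hv)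
        simp only [Units.val_mul, GeneralLinearGroup.coe_scalar] at hv'
        set a := ((ι.symm i : t) : F) with ha
        set b := ((ι.symm j : t) : F) with hb
        change g.val + Matrix.scalar (Fin 2) a = (g.val + Matrix.scalar (Fin 2) b) * _ at hv'
        have e00 := congrFun (congrFun hv' 0) 0
        have e01 := congrFun (congrFun hv' 0) 1
        have e10 := congrFun (congrFun hv' 1) 0
        have e11 := congrFun (congrFun hv' 1) 1
        simp at e00 e01 e10 e11
        have hv1 : (v : F) = 1 := by
          by_contra hne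
          have h1 : (1 : F) - v ≠ 0 := sub_ne_zero.2 (Ne.symm hne)
          refine hns (g.val 0 0) ?_
          ext x y; fin_cases x <;> fin_cases y <;> simp
          · exact (mul_eq_zero.1 (show (1 - (v : F)) * g.val 0 1 = 0 by linear_combination e01)).resolve_left h1
          · exact (mul_eq_zero.1 (show (1 - (v : F)) * g.val 1 0 = 0 by linear_combination e10)).resolve_left h1
          · exact (mul_left_cancel₀ h1 (by linear_combination e11 - e00))
        have hab : a = b := by rw [hv1] at e00; linear_combination e00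
        rw [ι.symm.injective (Subtype.ext hab)]
  · intro i
    refine Fin.cases ?_ (fun j => ?_) i
    · simp only [Fin.cons_zero, map_one]; exact Commute.one_left _
    · simp only [Fin.cons_succ]
      refine (show Commute (mkG (ι.symm j)) g from Units.ext ?_).map conjAut
      show G' _ * g.val = g.val * G' _
      simp only [hG', add_mul, mul_add]
      rw [(Matrix.scalar_commute ((ι.symm j : t) : F) (fun r => mul_comm _ _) g.val).eq]

end Finite

end CfsgLib.DGroup
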