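import Mathlib
import Cfsg.Agent.Lib.PSL2.Recognition

/-!
Dihedral 2-subgroups described by a cyclic subgroup `C` outside of which all elements square to 1.
-/

set_option autoImplicit false

namespace CfsgLib.DGroup

open Subgroup

variable {M : Type*} [Group M]

/-- `P` is a dihedral 2-group (order at least 4) with distinguished cyclic subgroup `C`. -/
structure DihData (P C : Subgroup M) : Prop where
  le : C ≤ P
  cyc : IsCyclic C
  two : IsPGroup 2 P
  even : 2 ∣ Nat.card C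
  mul_memC : ∀ x ∈ P, ∀ y ∈ P, x ∉ C → y ∉ C → x * y ∈ C
  proper : ∃ s ∈ P, s ∉ C
  out : ∀ x ∈ P, x ∉ C → x * x = 1

theorem inv_eq_of_sq {x : M} (h : x * x = 1) : x⁻¹ = x := inv_eq_of_mul_eq_one_right h

theorem exists_gen {C : Subgroup M} (h : IsCyclic C) : ∃ r, zpowers r = C := by
  obtain ⟨⟨r, hr⟩, hgen⟩ := h.exists_generator
  refine ⟨r, le_antisymm (zpowers_le.2 hr) fun a ha => ?_⟩
  obtain ⟨k, hk⟩ := hgen ⟨a, ha⟩
  exact ⟨k, by simpa using congrArg Subtype.val hk⟩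

/-- The four-element test used for elementary abelian subgroups. -/
theorem closure_isPGroup [Finite M] {s : Set M} (hc : ∀ x ∈ s, ∀ y ∈ s, x * y = y * x)
    (hs : ∀ x ∈ s, x * x = 1) : IsPGroup 2 (Subgroup.closure s) := by
  have hA : IsMulCommutative (Subgroup.closure s) := Subgroup.isMulCommutative_closure hc
  have hexp : ∀ a ∈ Subgroup.closure s, a * a = 1 := by
    intro a ha
    induction ha using Subgroup.closure_induction with
    | mem x hx => exact hs x hx
    | one => exact one_mul 1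
    | mul x y hxm hym hx hy =>
      have hxy : y * x = x * y :=
        congrArg Subtype.val (hA.is_comm.comm (⟨y, hym⟩ : Subgroup.closure s) ⟨x, hxm⟩)
      calc x * y * (x * y) = x * (y * x) * y := by group
        _ = x * x * (y * y) := by rw [hxy]; group
        _ = 1 := by rw [hx, hy, one_mul]
    | inv x _ hx => rw [inv_eq_of_sq hx, hx]
  intro a
  exact ⟨1, Subtype.ext (by simpa [pow_two] using hexp a a.2)⟩

namespace DihData

variable {P C : Subgroup M} (D : DihData P C)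
include D

theorem mul_not_mem {x a : M} (hxC : x ∉ C) (ha : a ∈ C) : x * a ∉ C :=
  fun h => hxC ((C.mul_mem_cancel_right ha).1 h)

theorem inverts {x a : M} (hx : x ∈ P) (hxC : x ∉ C) (ha : a ∈ C) : x * a * x = a⁻¹ := by
  have h := D.out (x * a) (mul_mem hx (D.le ha)) (D.mul_not_mem hxC ha)
  exact eq_inv_of_mul_eq_one_left (by simpa [mul_assoc] using h)

theorem comm_C {a b : M} (ha : a ∈ C) (hb : b ∈ C) : a * b = b * a := by
  obtain ⟨r, hr⟩ := exists_gen D.cyc
  rw [← hr] at ha hb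
  obtain ⟨i, rfl⟩ := ha
  obtain ⟨j, rfl⟩ := hb
  show r ^ i * r ^ j = r ^ j * r ^ i
  rw [← zpow_add, ← zpow_add, add_comm]

theorem exists_c [Finite M] :
    ∃ c ∈ C, c * c = 1 ∧ c ≠ 1 ∧ ∀ a ∈ C, a * a = 1 → a = 1 ∨ a = c := by
  classical
  haveI : Fact (Nat.Prime 2) := ⟨Nat.prime_two⟩
  haveI := D.cyc
  letI : Fintype C := Fintype.ofFinite _
  obtain ⟨c, hc⟩ := exists_prime_orderOf_dvd_card' (G := C) 2 D.even
  have hc1 : c ≠ 1 := fun h => by rw [h, orderOf_one] at hc; norm_num at hc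
  have hc2 : c * c = 1 := by rw [← pow_two, ← hc, pow_orderOf_eq_one]
  refine ⟨c, c.2, congrArg Subtype.val hc2, fun h => hc1 (Subtype.ext h), fun a ha ha2 => ?_⟩
  by_contra hne
  rw [not_or] at hne
  have hle := IsCyclic.card_pow_eq_one_le (α := C) two_pos
  have : ({1, ⟨a, ha⟩, c} : Finset C).card ≤ 2 := by
    refine (Finset.card_le_card fun x hx => ?_).trans hle
    simp only [Finset.mem_insert, Finset.mem_singleton] at hx
    refine Finset.mem_filter.mpr ⟨Finset.mem_univ _, ?_⟩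
    rcases hx with rfl | rfl | rfl
    · exact one_pow 2
    · rw [pow_two]; exact Subtype.ext ha2
    · rw [pow_two, hc2]
  have h1 : (⟨a, ha⟩ : C) ≠ c := fun h => hne.2 (congrArg Subtype.val h)
  have h2 : (1 : C) ≠ ⟨a, ha⟩ := fun h => hne.1 (congrArg Subtype.val h).symm
  rw [Finset.card_insert_of_notMem, Finset.card_pair h1] at this
  · omega
  · simp [h2, hc1.symm]

theorem central {c : M} (hcC : c ∈ C) (hc2 : c * c = 1) {p : M} (hp : p ∈ P) : p * c = c * p := by
  by_cases hpC : p ∈ C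
  · exact D.comm_C hpC hcC
  · have h := D.inverts hp hpC hcC
    rw [inv_eq_of_sq hc2] at h
    calc p * c = p * c * (p * p) := by rw [D.out p hp hpC, mul_one]
      _ = p * c * p * p := by group
      _ = c * p := by rw [h]

theorem centralizer_refl {c : M} (huniq : ∀ a ∈ C, a * a = 1 → a = 1 ∨ a = c) {x g : M}
    (hx : x ∈ P) (hxC : x ∉ C) (hg : g ∈ P) (hgx : g * x = x * g) :
    g = 1 ∨ g = c ∨ g = x ∨ g = c * x := by
  have key : ∀ a ∈ C, a * x = x * a → a = 1 ∨ a = c := by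
    intro a ha hax
    refine huniq a ha ?_
    have h := D.inverts hx hxC ha
    rw [← hax, mul_assoc, D.out x hx hxC, mul_one] at h
    nth_rewrite 2 [h]
    exact mul_inv_cancel a
  by_cases hgC : g ∈ C
  · rcases key g hgC hgx with rfl | rfl
    · exact Or.inl rfl
    · exact Or.inr (Or.inl rfl)
  · have hcomm : g * x * x = x * (g * x) := by rw [← mul_assoc, ← hgx]
    have hx2 := D.out x hx hxC
    rcases key (g * x) (D.mul_memC g hg x hx hgC hxC) hcomm with h | h
    · refine Or.inr (Or.inr (Or.inl ?_))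
      rw [eq_inv_of_mul_eq_one_left h, inv_eq_of_sq hx2]
    · refine Or.inr (Or.inr (Or.inr ?_))
      calc g = g * (x * x) := by rw [hx2, mul_one]
        _ = c * x := by rw [← mul_assoc, h]

/-- A dihedral 2-group has no elementary abelian subgroup of order eight. -/
theorem not_three [Finite M] {a b d : M} (ha : a ∈ P) (hb : b ∈ P) (hd : d ∈ P)
    (ha2 : a * a = 1) (hb2 : b * b = 1) (hab : a * b = b * a) (had : a * d = d * a)
    (hbd : b * d = d * b) (ha1 : a ≠ 1) (hb1 : b ≠ 1) (hne : a ≠ b)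
    (h1 : d ≠ 1) (h2 : d ≠ a) (h3 : d ≠ b) (h4 : d ≠ a * b) : False := by
  classical
  obtain ⟨c, -, -, -, huniq⟩ := D.exists_c
  obtain ⟨x, hx, hxC, hxa, hxb, hxd⟩ :
      ∃ x ∈ P, x ∉ C ∧ a * x = x * a ∧ b * x = x * b ∧ d * x = x * d := by
    by_cases haC : a ∈ C
    · refine ⟨b, hb, fun hbC => ?_, hab, rfl, hbd.symm⟩
      rcases huniq a haC ha2 with rfl | rfl
      · exact ha1 rfl
      · rcases huniq b hbC hb2 with rfl | rfl
        · exact hb1 rfl
        · exact hne rfl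
    · exact ⟨a, ha, haC, rfl, hab.symm, had.symm⟩
  have hsub : ({1, a, b, a * b, d} : Finset M) ⊆ {1, c, x, c * x} := by
    intro g hg
    simp only [Finset.mem_insert, Finset.mem_singleton] at hg ⊢
    rcases hg with rfl | rfl | rfl | rfl | rfl
    · exact Or.inl rfl
    · exact D.centralizer_refl huniq hx hxC ha hxa
    · exact D.centralizer_refl huniq hx hxC hb hxb
    · refine D.centralizer_refl huniq hx hxC (mul_mem ha hb) ?_
      rw [mul_assoc, hxb, ← mul_assoc, hxa, mul_assoc]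
    · exact D.centralizer_refl huniq hx hxC hd hxd
  have hab1 : a * b ≠ 1 := fun h =>
    hne ((eq_inv_of_mul_eq_one_left h).trans (inv_eq_of_sq hb2))
  have hcard := Finset.card_le_card hsub
  have h5 : ({1, a, b, a * b, d} : Finset M).card = 5 := by
    rw [Finset.card_insert_of_notMem, Finset.card_insert_of_notMem, Finset.card_insert_of_notMem,
      Finset.card_insert_of_notMem, Finset.card_singleton]
    · simp [h4.symm]
    · simp [h3.symm, ha1, fun h : b = a * b => ha1 (mul_eq_right.1 h.symm)]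
    · simp [hne, h2.symm, hb1, fun h : a = a * b => hb1 (mul_eq_left.1 h.symm)]
    · simp [ha1.symm, hb1.symm, hab1.symm, h1.symm]
  rw [h5] at hcard
  exact absurd (hcard.trans Finset.card_le_four) (by norm_num)

section Normal

variable {P₀ : Subgroup M}

theorem exists_refl (hle : P₀ ≤ P) (hnc : ¬ IsCyclic P₀) : ∃ s ∈ P₀, s ∉ C := by
  by_contra h
  push Not at h
  haveI := D.cyc
  exact hnc (Subgroup.isCyclic_of_le (fun x hx => h x hx))

theorem c_mem [Finite M] {c : M} (huniq : ∀ a ∈ C, a * a = 1 → a = 1 ∨ a = c)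
    (hle : P₀ ≤ P) (hnc : ¬ IsCyclic P₀) : c ∈ P₀ := by
  haveI : Fact (Nat.Prime 2) := ⟨Nat.prime_two⟩
  obtain ⟨s, hs, hsC⟩ := D.exists_refl hle hnc
  obtain ⟨a, ha, haC, ha1⟩ : ∃ a ∈ P₀, a ∈ C ∧ a ≠ 1 := by
    by_contra h
    push Not at h
    refine hnc ⟨⟨⟨s, hs⟩, fun g => ?_⟩⟩
    by_cases hgC : (g : M) ∈ C
    · exact ⟨0, Subtype.ext (by simpa using (h _ g.2 hgC).symm)⟩
    · refine ⟨1, Subtype.ext ?_⟩
      have h1 := h _ (mul_mem g.2 hs) (D.mul_memC _ (hle g.2) _ (hle hs) hgC hsC)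
      simp only [zpow_one]
      exact ((eq_inv_of_mul_eq_one_left h1).trans (inv_eq_of_sq (D.out s (hle hs) hsC))).symm
  obtain ⟨k, hk⟩ := IsPGroup.iff_orderOf.1 D.two ⟨a, hle ha⟩
  rw [Subgroup.orderOf_mk] at hk
  rcases k with _ | k
  · rw [pow_zero, orderOf_eq_one_iff] at hk; exact absurd hk ha1
  have h2 : a ^ 2 ^ k * a ^ 2 ^ k = 1 := by
    rw [← pow_add, ← mul_two, ← pow_succ, ← hk, pow_orderOf_eq_one]
  have h3 : a ^ 2 ^ k ≠ 1 :=
    pow_ne_one_of_lt_orderOf (pow_ne_zero _ two_ne_zero)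
      (by rw [hk]; exact Nat.pow_lt_pow_right one_lt_two (Nat.lt_succ_self k))
  rcases huniq _ (pow_mem haC _) h2 with h | h
  · exact absurd h h3
  · exact h ▸ pow_mem ha _

variable (hle : P₀ ≤ P) (hn : ∀ p ∈ P, ∀ a ∈ P₀, p * a * p⁻¹ ∈ P₀) (hnc : ¬ IsCyclic P₀)
include hle hn hnc

theorem sq_mem {a : M} (ha : a ∈ C) : a * a ∈ P₀ := by
  obtain ⟨s, hs, hsC⟩ := D.exists_refl hle hnc
  have hs2 := D.out s (hle hs) hsC
  have h : a * s * a⁻¹ * s ∈ P₀ := mul_mem (hn a (D.le ha) s hs) hs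
  have e : s * a⁻¹ * s = a := by
    have := D.inverts (hle hs) hsC (inv_mem ha)
    rwa [inv_inv] at this
  rwa [show a * s * a⁻¹ * s = a * (s * a⁻¹ * s) by group, e] at h

/-- Every element of `P` is in `P₀` or in the single other coset. -/
theorem mul_mem_of_not_mem {x y : M} (hx : x ∈ P) (hy : y ∈ P) (hx0 : x ∉ P₀) (hy0 : y ∉ P₀) :
    x * y ∈ P₀ := by
  obtain ⟨s, hs, hsC⟩ := D.exists_refl hle hnc
  obtain ⟨r, hr⟩ := exists_gen D.cyc
  have hrC : r ∈ C := hr ▸ mem_zpowers r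
  have hev : ∀ k : ℤ, Even k → r ^ k ∈ P₀ := by
    rintro k ⟨j, rfl⟩
    rw [zpow_add]
    exact D.sq_mem hle hn hnc (C.zpow_mem hrC j)
  have hform : ∀ p ∈ P, p ∉ P₀ → ∃ k : ℤ, ∃ a ∈ P₀, p = r ^ k * a ∧ Odd k := by
    intro p hp hp0
    obtain ⟨k, a, ha, rfl⟩ : ∃ k : ℤ, ∃ a ∈ P₀, p = r ^ k * a := by
      by_cases hpC : p ∈ C
      · rw [← hr] at hpC
        obtain ⟨k, hk⟩ := hpC
        exact ⟨k, 1, one_mem _, by rw [mul_one]; exact hk.symm⟩
      · have := D.mul_memC p hp s (hle hs) hpC hsC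
        rw [← hr] at this
        obtain ⟨k, hk⟩ := this
        exact ⟨k, s⁻¹, inv_mem hs, eq_mul_inv_of_mul_eq hk.symm⟩
    refine ⟨k, a, ha, rfl, ?_⟩
    by_contra hk
    exact hp0 (mul_mem (hev k (Int.not_odd_iff_even.1 hk)) ha)
  obtain ⟨k, a, ha, rfl, hk⟩ := hform x hx hx0
  obtain ⟨l, b, hb, rfl, hl⟩ := hform y hy hy0
  have h1 := hn _ (inv_mem (D.le (C.zpow_mem hrC l))) a ha
  rw [inv_inv] at h1
  rw [show r ^ k * a * (r ^ l * b) = r ^ (k + l) * ((r ^ l)⁻¹ * a * r ^ l) * b by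
    rw [zpow_add]; group]
  exact mul_mem (mul_mem (hev _ (hk.add_odd hl)) h1) hb

theorem exists_outer {p : M} (hp : p ∈ P) (hp0 : p ∉ P₀) :
    ∃ φ ∈ P, φ ∉ P₀ ∧ φ * φ = 1 := by
  obtain ⟨s, hs, hsC⟩ := D.exists_refl hle hnc
  by_cases hpC : p ∈ C
  · refine ⟨s * p, mul_mem (hle hs) hp, fun h => hp0 ((P₀.mul_mem_cancel_left hs).1 h), ?_⟩
    exact D.out _ (mul_mem (hle hs) hp) (D.mul_not_mem hsC hpC)
  · exact ⟨p, hp, hp0, D.out p hp hpC⟩

/-- The involutions of `P` outside a non-cyclic normal subgroup form one class. -/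
theorem outer_conj [Finite M] {x y : M} (hx : x ∈ P) (hy : y ∈ P) (hx0 : x ∉ P₀) (hy0 : y ∉ P₀)
    (hx2 : x * x = 1) (hy2 : y * y = 1) : ∃ p ∈ P, p * x * p⁻¹ = y := by
  obtain ⟨s, hs, hsC⟩ := D.exists_refl hle hnc
  obtain ⟨c, -, -, -, huniq⟩ := D.exists_c
  obtain ⟨r, hr⟩ := exists_gen D.cyc
  have hrC : r ∈ C := hr ▸ mem_zpowers r
  have hnotC : ∀ u ∈ P, u ∉ P₀ → u * u = 1 → u ∉ C := by
    intro u hu hu0 hu2 huC
    rcases huniq u huC hu2 with h | h
    · exact hu0 (h ▸ one_mem _)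
    · exact hu0 (h ▸ D.c_mem huniq hle hnc)
  have hxC := hnotC x hx hx0 hx2
  have hyC := hnotC y hy hy0 hy2
  have hr0 : r ∉ P₀ := by
    intro h
    have hCP : C ≤ P₀ := hr ▸ zpowers_le.2 h
    exact hx0 ((P₀.mul_mem_cancel_right hs).1 (hCP (D.mul_memC x hx s (hle hs) hxC hsC)))
  have hxy := D.mul_mem_of_not_mem hle hn hnc hx hy hx0 hy0
  obtain ⟨k, hk⟩ : x * y ∈ zpowers r := hr ▸ D.mul_memC x hx y hy hxC hyC
  change r ^ k = x * y at hk
  rcases Int.even_or_odd k with ⟨j, hj⟩ | ⟨j, hj⟩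
  · subst hj
    refine ⟨r ^ (-j), D.le (C.zpow_mem hrC _), ?_⟩
    have hinv := D.inverts hx hxC (C.zpow_mem hrC (-j))
    rw [← zpow_neg, neg_neg] at hinv
    have hy' : y = x * r ^ (j + j) := by rw [hk, ← mul_assoc, hx2, one_mul]
    have e1 : r ^ (-j) * x = x * r ^ j := by
      rw [← hinv]
      simp only [← mul_assoc, hx2, one_mul]
    rw [e1, hy', mul_assoc, ← zpow_neg, ← zpow_add, neg_neg]
  · exfalso
    apply hr0
    have h2 : r ^ (j + j) ∈ P₀ := by rw [zpow_add]; exact D.sq_mem hle hn hnc (C.zpow_mem hrC j)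
    have h3 : r ^ k ∈ P₀ := hk ▸ hxy
    rw [hj, show 2 * j + 1 = j + j + 1 by ring, zpow_add, zpow_one] at h3
    exact (P₀.mul_mem_cancel_left h2).1 h3

omit hn in
/-- A non-cyclic subgroup is again dihedral. -/
theorem restrict [Finite M] : DihData P₀ (C ⊓ P₀) := by
  obtain ⟨c, hcC, hc2, hc1, huniq⟩ := D.exists_c
  obtain ⟨s, hs, hsC⟩ := D.exists_refl hle hnc
  refine ⟨inf_le_right, ?_, D.two.to_le hle, ?_, ?_, ⟨s, hs, fun h => hsC h.1⟩, ?_⟩
  · haveI := D.cyc
    exact Subgroup.isCyclic_of_le inf_le_left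
  · have := orderOf_dvd_natCard (⟨c, hcC, D.c_mem huniq hle hnc⟩ : ↥(C ⊓ P₀))
    rwa [← Subgroup.orderOf_coe, orderOf_eq_prime (by rw [pow_two, hc2]) hc1] at this
  · intro x hx y hy hx' hy'
    exact ⟨D.mul_memC x (hle hx) y (hle hy) (fun h => hx' ⟨h, hx⟩) (fun h => hy' ⟨h, hy⟩),
      mul_mem hx hy⟩
  · intro x hx hx'
    exact D.out x (hle hx) fun h => hx' ⟨h, hx⟩

end Normal

theorem nonempty_equiv [Finite M] : ∃ n, 2 ≤ n ∧ Nonempty (P ≃* DihedralGroup n) := by
  obtain ⟨s, hs, hsC⟩ := D.proper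
  refine ⟨Nat.card C, ?_, ?_⟩
  · exact Nat.le_of_dvd Nat.card_pos D.even
  · have e := (Subgroup.subgroupOfEquivOfLe D.le)
    haveI : IsCyclic (C.subgroupOf P) := e.isCyclic.2 D.cyc
    have hidx : (C.subgroupOf P).index = 2 := by
      refine Subgroup.index_eq_two_iff.2 ⟨⟨s, hs⟩, fun b => ?_⟩
      simp only [Subgroup.mem_subgroupOf, Subgroup.coe_mul]
      by_cases hb : (b : M) ∈ C
      · exact Or.inr ⟨hb, fun h => hsC ((C.mul_mem_cancel_left hb).1 h)⟩
      · exact Or.inl ⟨D.mul_memC _ b.2 _ hs hb hsC, hb⟩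
    rw [← Nat.card_congr e.toEquiv]
    refine CfsgLib.PSL2.nonempty_mulEquiv_dihedral _ hidx fun g hg => ?_
    exact Subtype.ext (D.out _ g.2 fun h => hg (Subgroup.mem_subgroupOf.2 h))

theorem not_isCyclic [Finite M] : ¬ IsCyclic P := by
  intro hc
  obtain ⟨c, hcC, hc2, hc1, huniq⟩ := D.exists_c
  obtain ⟨s, hs, hsC⟩ := D.proper
  have hs2 := D.out s hs hsC
  classical
  haveI := hc
  letI : Fintype P := Fintype.ofFinite _
  have hle := IsCyclic.card_pow_eq_one_le (α := P) two_pos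
  have : ({1, ⟨c, D.le hcC⟩, ⟨s, hs⟩} : Finset P).card ≤ 2 := by
    refine (Finset.card_le_card fun x hx => ?_).trans hle
    simp only [Finset.mem_insert, Finset.mem_singleton] at hx
    refine Finset.mem_filter.mpr ⟨Finset.mem_univ _, ?_⟩
    rcases hx with rfl | rfl | rfl
    · exact one_pow 2
    · rw [pow_two]; exact Subtype.ext hc2
    · rw [pow_two]; exact Subtype.ext hs2
  rw [Finset.card_insert_of_notMem, Finset.card_pair] at this
  · omega
  · intro h
    exact hsC ((show c = s from congrArg Subtype.val h) ▸ hcC)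
  · simp only [Finset.mem_insert, Finset.mem_singleton, not_or]
    exact ⟨fun h => hc1 (congrArg Subtype.val h).symm,
      fun h => hsC ((show (1 : M) = s from congrArg Subtype.val h) ▸ one_mem C)⟩

/-- Image under a homomorphism injective on `P`. -/
theorem map {M' : Type*} [Group M'] (f : M →* M')
    (hf : ∀ x ∈ P, f x = 1 → x = 1) : DihData (P.map f) (C.map f) := by
  have hinj : ∀ x ∈ P, ∀ y ∈ P, f x = f y → x = y := fun x hx y hy h =>
    mul_inv_eq_one.1 (hf _ (mul_mem hx (inv_mem hy)) (by rw [map_mul, map_inv, h, mul_inv_cancel]))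
  have hmem : ∀ x ∈ P, f x ∈ C.map f → x ∈ C := by
    rintro x hx ⟨a, ha, h⟩
    exact hinj a (D.le ha) x hx h ▸ ha
  refine ⟨Subgroup.map_mono D.le, ?_, D.two.map f, ?_, ?_, ?_, ?_⟩
  · haveI := D.cyc
    exact isCyclic_of_surjective (f.subgroupMap C) (f.subgroupMap_surjective C)
  · have : Function.Bijective (f.subgroupMap C) := by
      refine ⟨fun a b h => Subtype.ext (hinj _ (D.le a.2) _ (D.le b.2) ?_),
        f.subgroupMap_surjective C⟩
      exact congrArg Subtype.val h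
    rw [← Nat.card_congr (Equiv.ofBijective _ this)]
    exact D.even
  · rintro _ ⟨x, hx, rfl⟩ _ ⟨y, hy, rfl⟩ hxC hyC
    rw [← map_mul]
    exact mem_map_of_mem f (D.mul_memC x hx y hy (fun h => hxC (mem_map_of_mem f h))
      fun h => hyC (mem_map_of_mem f h))
  · obtain ⟨s, hs, hsC⟩ := D.proper
    exact ⟨f s, mem_map_of_mem f hs, fun h => hsC (hmem s hs h)⟩
  · rintro _ ⟨x, hx, rfl⟩ hxC
    rw [← map_mul, D.out x hx (fun h => hxC (mem_map_of_mem f h)), map_one]

end DihData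

/-- A 2-group isomorphic to a dihedral group of order at least four. -/
theorem dihData_of_equiv {P : Subgroup M} (hP : IsPGroup 2 P) {n : ℕ} (hn : 2 ≤ n)
    (e : P ≃* DihedralGroup n) : ∃ C, DihData P C := by
  haveI : Fact (Nat.Prime 2) := ⟨Nat.prime_two⟩
  haveI : NeZero n := ⟨by omega⟩
  set R : Subgroup (DihedralGroup n) := zpowers (DihedralGroup.r 1) with hR
  have hsr : ∀ i : ZMod n, DihedralGroup.sr i ∉ R := by
    rintro i ⟨k, hk⟩
    simp at hk
  have hr : ∀ i : ZMod n, DihedralGroup.r i ∈ R := fun i => ⟨(i.cast : ℤ), by simp⟩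
  have heven : 2 ∣ n := by
    haveI : Finite P := Finite.of_equiv _ e.symm.toEquiv
    obtain ⟨k, hk⟩ := IsPGroup.iff_card.1 hP
    rw [Nat.card_congr e.toEquiv, DihedralGroup.nat_card] at hk
    rcases k with _ | _ | k
    · omega
    · omega
    · exact ⟨2 ^ k, by rw [pow_succ, pow_succ] at hk; omega⟩
  have key : ∀ x : P, (x : M) ∈ R.map (P.subtype.comp e.symm.toMonoidHom) ↔ e x ∈ R := by
    intro x
    constructor
    · rintro ⟨y, hy, h⟩
      have : e.symm y = x := Subtype.ext h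
      rw [← this, MulEquiv.apply_symm_apply]
      exact hy
    · intro h
      exact ⟨e x, h, by simp⟩
  refine ⟨R.map (P.subtype.comp e.symm.toMonoidHom), ?_, ?_, hP, ?_, ?_, ?_, ?_⟩
  · rintro _ ⟨x, -, rfl⟩
    exact (e.symm x).2
  · rw [hR, MonoidHom.map_zpowers]
    infer_instance
  · rw [hR, MonoidHom.map_zpowers, Nat.card_zpowers,
      orderOf_injective _ (Subtype.val_injective.comp e.symm.injective),
      DihedralGroup.orderOf_r_one]
    exact heven
  · intro x hx y hy hxC hyC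
    refine (key ⟨_, mul_mem hx hy⟩).2 ?_
    rw [key ⟨x, hx⟩] at hxC
    rw [key ⟨y, hy⟩] at hyC
    have hmul : e ⟨x * y, mul_mem hx hy⟩ = e ⟨x, hx⟩ * e ⟨y, hy⟩ := by rw [← map_mul]; rfl
    rw [hmul]
    rcases h1 : e ⟨x, hx⟩ with i | i
    · exact absurd (h1 ▸ hr i) hxC
    rcases h2 : e ⟨y, hy⟩ with j | j
    · exact absurd (h2 ▸ hr j) hyC
    rw [DihedralGroup.sr_mul_sr]
    exact hr _
  · refine ⟨_, (e.symm (DihedralGroup.sr 0)).2, fun h => hsr 0 ?_⟩
    simpa using (key (e.symm (DihedralGroup.sr 0))).1 h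
  · intro x hx hxC
    rw [key ⟨x, hx⟩] at hxC
    have h : (⟨x, hx⟩ : P) * ⟨x, hx⟩ = 1 := by
      apply e.injective
      rw [map_mul, map_one]
      rcases h1 : e ⟨x, hx⟩ with i | i
      · exact absurd (h1 ▸ hr i) hxC
      · exact DihedralGroup.sr_mul_self i
    exact congrArg Subtype.val h

end CfsgLib.DGroup
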