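import Mathlib
import Cfsg.Agent.Lib.DGroup.Dihedral
import Cfsg.Agent.Lib.DGroup.Outer
import Cfsg.Agent.Lib.GWCons.RankOneCover
import Cfsg.Agent.Lib.Schur.AutAlternating

/-!
A non-solvable core-free group with dihedral Sylow 2-subgroups in which the centralizer of an
involution `z` is generalized dihedral is `PSL₂(q)` or `PGL₂(q)`, given the classification of
perfect groups with dihedral Sylow 2-subgroups.
-/

set_option autoImplicit false

namespace CfsgLib.DGroup

open Subgroup
open CfsgLib.GWCons.RankOneCover (DihedralClassification)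

universe u

variable {M : Type u} [Group M] [Finite M]

omit [Finite M] in
theorem orderOf_of_sq {x : M} (h : x * x = 1) (h1 : x ≠ 1) : orderOf x = 2 :=
  orderOf_eq_prime (by rw [pow_two, h]) h1

omit [Finite M] in
theorem perfect_le_of_index_two {X K : Subgroup M} (hperf : ⁅X, X⁆ = X) (hK : K.index = 2) :
    X ≤ K := by
  rw [← hperf, Subgroup.commutator_le]
  intro a _ b _
  rw [commutatorElement_def, mul_mem_iff_of_index_two hK, mul_mem_iff_of_index_two hK,
    mul_mem_iff_of_index_two hK, inv_mem_iff, inv_mem_iff]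
  tauto

omit [Finite M] in
theorem exists_perfect_normal [Finite M] (hns : ¬ Group.IsSolvable M) :
    ∃ X : Subgroup M, X.Normal ∧ ⁅X, X⁆ = X ∧ X ≠ ⊥ := by
  obtain ⟨n, hn⟩ := Finite.exists_min (fun n : Fin (Nat.card M + 1) =>
    Nat.card (derivedSeries M n))
  have hanti : ∀ k, derivedSeries M (k + 1) ≤ derivedSeries M k := fun k =>
    derivedSeries_antitone M (Nat.le_succ k)
  by_cases h : ∃ k, derivedSeries M (k + 1) = derivedSeries M k
  · obtain ⟨k, hk⟩ := h
    refine ⟨derivedSeries M k, derivedSeries_normal M k, hk, fun hb => hns ⟨⟨k, hb⟩⟩⟩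
  · exfalso
    push Not at h
    have hdec : ∀ k, Nat.card (derivedSeries M k) + k ≤ Nat.card M := by
      intro k
      induction k with
      | zero => simp [Subgroup.card_le_card_group]
      | succ k ih =>
        have hlt : Nat.card (derivedSeries M (k + 1)) < Nat.card (derivedSeries M k) := by
          refine lt_of_le_of_ne (Nat.le_of_dvd Nat.card_pos (Subgroup.card_dvd_of_le (hanti k)))
            fun he => h k (Subgroup.eq_of_le_of_card_ge (hanti k) he.ge)
        omega
    have := hdec (Nat.card M + 1)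
    omega

/-- The data: a dihedral Sylow subgroup, trivial core, and a perfect normal subgroup. -/
structure Ctx (P : Sylow 2 M) (C X : Subgroup M) : Prop where
  dd : DihData (P : Subgroup M) C
  core : ∀ N : Subgroup M, N.Normal → Odd (Nat.card N) → N = ⊥
  normal : X.Normal
  perfect : ⁅X, X⁆ = X
  ne_bot : X ≠ ⊥

namespace Ctx

variable {P : Sylow 2 M} {C X : Subgroup M} (K : Ctx P C X)
include K

theorem isPerfect : Group.IsPerfect X := by
  rw [Group.isPerfect_def]
  apply Subgroup.map_injective X.subtype_injective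
  rw [Subgroup.map_subtype_commutator, K.perfect, ← MonoidHom.range_eq_map, Subgroup.range_subtype]

theorem even_X : Even (Nat.card X) := by
  by_contra h
  exact K.ne_bot (K.core X K.normal (Nat.not_even_iff_odd.1 h))

theorem not_dvd_relIndex : ¬ 2 ∣ (P : Subgroup M).relIndex X := by
  haveI := K.normal
  intro h
  apply P.not_dvd_index
  have h1 := Subgroup.relIndex_mul_index (inf_le_left : (P : Subgroup M) ⊓ X ≤ P)
  have h2 := Subgroup.relIndex_mul_index (inf_le_right : (P : Subgroup M) ⊓ X ≤ X)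
  have h3 := Subgroup.relIndex_mul_index (le_sup_right : X ≤ (P : Subgroup M) ⊔ X)
  rw [Subgroup.inf_relIndex_left] at h1
  rw [Subgroup.inf_relIndex_right] at h2
  rw [Subgroup.relIndex_sup_right] at h3
  rw [← h3, ← h1] at h2
  have h4 : (P : Subgroup M).relIndex X * ((P : Subgroup M) ⊔ X).index = (P : Subgroup M).index :=
    Nat.eq_of_mul_eq_mul_left
      (Nat.pos_of_ne_zero (Subgroup.index_ne_zero_of_finite (H := X.subgroupOf (P : Subgroup M))))
      ((mul_left_comm (X.relIndex (P : Subgroup M)) _ _).trans h2)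
  exact h4 ▸ h.trans (Dvd.intro _ rfl)

/-- The Sylow 2-subgroup of `X` cut out by `P`. -/
theorem exists_sylow : ∃ S : Sylow 2 X, (S : Subgroup X) = ((P : Subgroup M) ⊓ X).subgroupOf X := by
  haveI : Fact (Nat.Prime 2) := ⟨Nat.prime_two⟩
  have hp : IsPGroup 2 (((P : Subgroup M) ⊓ X).subgroupOf X) :=
    (P.2.to_le inf_le_left).of_equiv (Subgroup.subgroupOfEquivOfLe inf_le_right).symm
  have hi : ¬ 2 ∣ (((P : Subgroup M) ⊓ X).subgroupOf X).index := by
    show ¬ 2 ∣ ((P : Subgroup M) ⊓ X).relIndex X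
    rw [Subgroup.inf_relIndex_right]
    exact K.not_dvd_relIndex
  exact ⟨hp.toSylow hi, rfl⟩

theorem not_cyclic : ¬ IsCyclic ((P : Subgroup M) ⊓ X : Subgroup M) := by
  intro hc
  haveI := K.isPerfect
  obtain ⟨S, hS⟩ := K.exists_sylow
  have : IsCyclic (S : Subgroup X) := by
    rw [hS]
    exact (Subgroup.subgroupOfEquivOfLe inf_le_right).isCyclic.2 hc
  obtain ⟨H, hH⟩ := Cfsg.Agent.S0219.result K.even_X S this
  exact CfsgLib.GWCons.RankOneCover.index_ne_two H hH

theorem conj_mem {p : M} (hp : p ∈ P) {a : M} (ha : a ∈ (P : Subgroup M) ⊓ X) :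
    p * a * p⁻¹ ∈ (P : Subgroup M) ⊓ X :=
  ⟨Subgroup.mul_mem _ (Subgroup.mul_mem _ hp ha.1) (Subgroup.inv_mem _ hp),
    K.normal.conj_mem a ha.2 p⟩

theorem nonempty_equiv_dihedral : ∃ (S : Sylow 2 X) (n : ℕ), 2 ≤ n ∧
    Nonempty ((S : Subgroup X) ≃* DihedralGroup n) := by
  obtain ⟨S, hS⟩ := K.exists_sylow
  obtain ⟨n, hn, ⟨e⟩⟩ := (K.dd.restrict inf_le_left K.not_cyclic).nonempty_equiv
  refine ⟨S, n, hn, ⟨?_⟩⟩
  rw [hS]
  exact (Subgroup.subgroupOfEquivOfLe inf_le_right).trans e

/-- All involutions of `X` are conjugate in `X` to the central involution of `P`. -/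
theorem conj_c {c : M} (huniq : ∀ a ∈ C, a * a = 1 → a = 1 ∨ a = c) {y : M} (hy : y ∈ X)
    (hy2 : y * y = 1) (hy1 : y ≠ 1) : ∃ x ∈ X, x * y * x⁻¹ = c := by
  haveI : Fact (Nat.Prime 2) := ⟨Nat.prime_two⟩
  haveI := K.isPerfect
  by_contra hcon
  obtain ⟨S, hS⟩ := K.exists_sylow
  have D0 := K.dd.restrict (P₀ := (P : Subgroup M) ⊓ X) inf_le_left K.not_cyclic
  obtain ⟨s, hs, hsC⟩ := D0.proper
  set Q : Subgroup X := (C ⊓ ((P : Subgroup M) ⊓ X)).subgroupOf X with hQ
  have hQi : Q.relIndex (S : Subgroup X) = 2 := by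
    refine Subgroup.index_eq_two_iff.2 ⟨⟨⟨s, hs.2⟩, by rw [hS]; exact hs⟩, fun b => ?_⟩
    have hbS : ((b : X) : M) ∈ (P : Subgroup M) ⊓ X := by
      have h := SetLike.ext_iff.1 hS (b : X)
      exact h.1 b.2
    simp only [hQ, Subgroup.mem_subgroupOf, Subgroup.coe_mul]
    by_cases hb : ((b : X) : M) ∈ C ⊓ ((P : Subgroup M) ⊓ X)
    · exact Or.inr ⟨hb, fun h => hsC ((Subgroup.mul_mem_cancel_left _ hb).1 h)⟩
    · exact Or.inl ⟨D0.mul_memC _ hbS _ hs hb hsC, hb⟩
  have hcl : ∀ g : X, g * (⟨y, hy⟩ : X) * g⁻¹ ∈ (S : Subgroup X) → g * (⟨y, hy⟩ : X) * g⁻¹ ∉ Q := by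
    intro g _ hQg
    rw [hQ, Subgroup.mem_subgroupOf] at hQg
    have h2 : ((g : M) * y * (g : M)⁻¹) * ((g : M) * y * (g : M)⁻¹) = 1 := by
      rw [show (g : M) * y * (g : M)⁻¹ * ((g : M) * y * (g : M)⁻¹) = g * (y * y) * (g : M)⁻¹ by group,
        hy2]
      group
    rcases huniq _ hQg.1 h2 with h | h
    · exact hy1 (conj_eq_one_iff.1 h)
    · exact hcon ⟨g, g.2, h⟩
  obtain ⟨N, -, hN, -⟩ := CfsgLib.Transfer.thompson_transfer S Q hQi ⟨y, hy⟩
    (by rw [pow_two]; exact Subtype.ext hy2) hcl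
  exact CfsgLib.GWCons.RankOneCover.index_ne_two N hN

/-- `X` has trivial centralizer. -/
theorem centralizer_eq_bot : centralizer (X : Set M) = ⊥ := by
  haveI : Fact (Nat.Prime 2) := ⟨Nat.prime_two⟩
  haveI := K.normal
  set Z := centralizer (X : Set M) with hZ
  haveI hZn : Z.Normal := by rw [hZ]; infer_instance
  refine K.core Z hZn ?_
  rw [← Nat.not_even_iff_odd]
  intro hev
  obtain ⟨u, hu⟩ := exists_prime_orderOf_dvd_card' (G := Z) 2 hev.two_dvd
  rw [← Subgroup.orderOf_coe] at hu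
  obtain ⟨g, hg⟩ := CfsgLib.Involutions.exists_conj_le_sylow
    (CfsgLib.Involutions.isPGroup_two_zpowers hu) P
  have hwP := hg _ (mem_zpowers (u : M))
  set w := g * (u : M) * g⁻¹ with hw
  have hwZ : w ∈ Z := hZn.conj_mem _ u.2 g
  have hw2 : w * w = 1 := CfsgLib.Involutions.mul_self_eq_one
    ((CfsgLib.Involutions.orderOf_conj_eq g (u : M)).trans hu)
  have hw1 : w ≠ 1 := fun h => by
    rw [hw, conj_eq_one_iff] at h
    rw [h, orderOf_one] at hu
    norm_num at hu
  obtain ⟨c, hcC, hc2, hc1, huniq⟩ := K.dd.exists_c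
  have hcX : c ∈ (P : Subgroup M) ⊓ X := K.dd.c_mem huniq inf_le_left K.not_cyclic
  obtain ⟨s, hs, hsC⟩ := K.dd.exists_refl inf_le_left K.not_cyclic
  have hwX : w ∈ X := by
    rcases K.dd.centralizer_refl huniq hs.1 hsC hwP (mem_centralizer_iff.1 hwZ s hs.2).symm
      with h | h | h | h
    · exact absurd h hw1
    · exact h ▸ hcX.2
    · exact h ▸ hs.2
    · exact h ▸ mul_mem hcX.2 hs.2
  -- the central involution `w` of `X` is conjugate to all involutions
  obtain ⟨x, hx, hxw⟩ := K.conj_c huniq hwX hw2 hw1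
  have hwc : w = c := by
    rw [← hxw, mem_centralizer_iff.1 hwZ x hx, mul_inv_cancel_right]
  obtain ⟨x', hx', hxs⟩ := K.conj_c huniq hs.2 (K.dd.out s hs.1 hsC)
    (fun h => hsC (h ▸ one_mem C))
  apply hsC
  have hcomm : x'⁻¹ * c = c * x'⁻¹ := hwc ▸ mem_centralizer_iff.1 hwZ _ (inv_mem hx')
  have hsc : s = c := by
    calc s = x'⁻¹ * (x' * s * x'⁻¹) * x' := by group
      _ = x'⁻¹ * c * x' := by rw [hxs]
      _ = c := by rw [hcomm, inv_mul_cancel_right]
  exact hsc ▸ hcC

theorem conjNormal_injective [X.Normal] :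
    Function.Injective (MulAut.conjNormal : M →* MulAut X) := by
  rw [injective_iff_map_eq_one]
  intro m hm
  have : m ∈ centralizer (X : Set M) := by
    rw [mem_centralizer_iff]
    intro x hx
    have h : m * x * m⁻¹ = x := by
      simpa [MulAut.conjNormal_apply] using congrArg Subtype.val (DFunLike.congr_fun hm ⟨x, hx⟩)
    calc x * m = m * x * m⁻¹ * m := by rw [h]
      _ = m * x := inv_mul_cancel_right _ _
  rw [K.centralizer_eq_bot, mem_bot] at this
  exact this

/-- `M` has no elementary abelian subgroup of order eight. -/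
theorem no_eight {a b d : M} (ha2 : a * a = 1) (hb2 : b * b = 1) (hd2 : d * d = 1)
    (hab : a * b = b * a) (had : a * d = d * a) (hbd : b * d = d * b) (ha1 : a ≠ 1) (hb1 : b ≠ 1)
    (hne : a ≠ b) (h1 : d ≠ 1) (h2 : d ≠ a) (h3 : d ≠ b) (h4 : d ≠ a * b) : False := by
  haveI : Fact (Nat.Prime 2) := ⟨Nat.prime_two⟩
  have hp : IsPGroup 2 (Subgroup.closure ({a, b, d} : Set M)) := by
    refine closure_isPGroup ?_ ?_
    · rintro x (rfl | rfl | rfl) y (rfl | rfl | rfl)
      exacts [rfl, hab, had, hab.symm, rfl, hbd, had.symm, hbd.symm, rfl]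
    · rintro x (rfl | rfl | rfl) <;> assumption
  obtain ⟨g, hg⟩ := CfsgLib.Involutions.exists_conj_le_sylow hp P
  set φ := MulAut.conj g with hφ
  have hm : ∀ x ∈ ({a, b, d} : Set M), φ x ∈ (P : Subgroup M) := fun x hx => by
    rw [hφ, MulAut.conj_apply]; exact hg x (subset_closure hx)
  refine K.dd.not_three (hm a (by simp)) (hm b (by simp)) (hm d (by simp))
    ?_ ?_ ?_ ?_ ?_ (by simpa using ha1) (by simpa using hb1)
    (φ.injective.ne hne) (by simpa using h1) (φ.injective.ne h2) (φ.injective.ne h3)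
    (by rw [← map_mul]; exact φ.injective.ne h4)
  · rw [← map_mul, ha2, map_one]
  · rw [← map_mul, hb2, map_one]
  · rw [← map_mul, ← map_mul, hab]
  · rw [← map_mul, ← map_mul, had]
  · rw [← map_mul, ← map_mul, hbd]

/-- Some involution of `X` other than `z` commutes with `z`. -/
theorem exists_v {z : M} (hzP : z ∈ P) :
    ∃ v ∈ X, v * v = 1 ∧ v ≠ 1 ∧ v ≠ z ∧ v * z = z * v := by
  obtain ⟨c, hcC, hc2, hc1, huniq⟩ := K.dd.exists_c
  have hcX : c ∈ (P : Subgroup M) ⊓ X := K.dd.c_mem huniq inf_le_left K.not_cyclic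
  by_cases hzc : z = c
  · obtain ⟨s, hs, hsC⟩ := K.dd.exists_refl inf_le_left K.not_cyclic
    subst hzc
    exact ⟨s, hs.2, K.dd.out s hs.1 hsC, fun h => hsC (h ▸ one_mem C), fun h => hsC (h ▸ hcC),
      K.dd.central hcC hc2 hs.1⟩
  · exact ⟨c, hcX.2, hc2, hc1, Ne.symm hzc, (K.dd.central hcC hc2 hzP).symm⟩

/-- `X` is not `A₇`. -/
theorem false_of_alternating (e : X ≃* alternatingGroup (Fin 7)) {z : M} (hz2 : z * z = 1)
    (hz1 : z ≠ 1) (B : Subgroup M) (hout : ∀ c, c * z = z * c → c ∉ B → c * c = 1)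
    (hB : ∀ b ∈ B, b * b = 1 → b = 1 ∨ b = z) : False := by
  haveI := K.normal
  obtain ⟨c, -, -, -, huniq⟩ := K.dd.exists_c
  by_cases hzX : z ∈ X
  · let s0 : alternatingGroup (Fin 7) :=
      ⟨Equiv.swap 0 1 * Equiv.swap 2 3, Equiv.Perm.mem_alternatingGroup.2 (by decide)⟩
    let v0 : alternatingGroup (Fin 7) :=
      ⟨Equiv.swap 0 2 * Equiv.swap 1 3, Equiv.Perm.mem_alternatingGroup.2 (by decide)⟩
    let b0 : alternatingGroup (Fin 7) :=
      ⟨Equiv.swap 4 5 * Equiv.swap 5 6, Equiv.Perm.mem_alternatingGroup.2 (by decide)⟩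
    obtain ⟨x1, hx1, hxz⟩ := K.conj_c huniq hzX hz2 hz1
    obtain ⟨x2, hx2, hxs⟩ := K.conj_c huniq (e.symm s0).2
      (by rw [← Subgroup.coe_mul, ← map_mul, show s0 * s0 = 1 by decide, map_one, OneMemClass.coe_one])
      (fun h => absurd (e.symm.map_eq_one_iff.1 (Subtype.ext h)) (by decide))
    -- transport to `z`
    set φ : M →* M := (MulAut.conj (x1⁻¹ * x2)).toMonoidHom with hφ
    have hφz : φ (e.symm s0 : M) = z := by
      show x1⁻¹ * x2 * (e.symm s0 : M) * (x1⁻¹ * x2)⁻¹ = z
      rw [show x1⁻¹ * x2 * (e.symm s0 : M) * (x1⁻¹ * x2)⁻¹ =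
        x1⁻¹ * (x2 * (e.symm s0 : M) * x2⁻¹) * x1 by group, hxs, ← hxz]
      group
    set f : alternatingGroup (Fin 7) →* M := φ.comp (X.subtype.comp e.symm.toMonoidHom) with hf
    have hfinj : Function.Injective f :=
      (MulAut.conj (x1⁻¹ * x2)).injective.comp (Subtype.val_injective.comp e.symm.injective)
    have hfs : f s0 = z := hφz
    have hvc : f v0 * z = z * f v0 := by
      rw [← hfs, ← map_mul, ← map_mul]; exact congrArg f (by decide)
    have hbc : f b0 * z = z * f b0 := by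
      rw [← hfs, ← map_mul, ← map_mul]; exact congrArg f (by decide)
    have hv2 : f v0 * f v0 = 1 := by rw [← map_mul, show v0 * v0 = 1 by decide, map_one]
    have hb2 : f b0 * f b0 ≠ 1 := by
      rw [← map_mul, ← map_one f]; exact hfinj.ne (by decide)
    have hbB : f b0 ∈ B := by
      by_contra h
      exact hb2 (hout _ hbc h)
    have hvB : f v0 ∉ B := by
      intro h
      rcases hB _ h hv2 with h' | h'
      · exact absurd (hfinj (h'.trans (map_one f).symm)) (by decide)
      · exact absurd (hfinj (h'.trans hfs.symm)) (by decide)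
    have hbv : f (b0 * v0) * f (b0 * v0) = 1 := by
      refine hout _ ?_ ?_
      · rw [map_mul, mul_assoc, hvc, ← mul_assoc, hbc, mul_assoc]
      · rw [map_mul]
        exact fun h => hvB ((B.mul_mem_cancel_left hbB).1 h)
    rw [← map_mul, ← map_one f] at hbv
    exact absurd (hfinj hbv) (by decide)
  · let E := MulEquiv.ofBijective _ (CfsgLib.Schur.conjNormal_bijective (n := 7) (by norm_num) (by norm_num))
    let ρ : M →* Equiv.Perm (Fin 7) :=
      E.symm.toMonoidHom.comp ((MulAut.congr e).toMonoidHom.comp MulAut.conjNormal)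
    have hρinj : Function.Injective ρ :=
      E.symm.injective.comp ((MulAut.congr e).injective.comp K.conjNormal_injective)
    have hρX : ∀ x : X, ρ x = ((e x : alternatingGroup (Fin 7)) : Equiv.Perm (Fin 7)) := by
      intro x
      apply E.injective
      show E (E.symm _) = _
      rw [MulEquiv.apply_symm_apply]
      apply MulEquiv.ext
      intro y
      apply Subtype.ext
      show ((e (MulAut.conjNormal (x : M) (e.symm y)) : alternatingGroup (Fin 7)) :
        Equiv.Perm (Fin 7)) = _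
      rw [show MulAut.conjNormal (x : M) (e.symm y) = x * e.symm y * x⁻¹ from
        Subtype.ext (MulAut.conjNormal_apply _ _), map_mul, map_mul, map_inv, e.apply_symm_apply]
      exact (MulAut.conjNormal_apply _ y).symm
    have hodd : Equiv.Perm.sign (ρ z) ≠ 1 := by
      intro h
      obtain ⟨x, hx⟩ := e.surjective ⟨ρ z, Equiv.Perm.mem_alternatingGroup.2 h⟩
      have : ρ (x : M) = ρ z := by rw [hρX, hx]
      exact hzX (hρinj this ▸ x.2)
    have hsurj : Function.Surjective ρ := by
      intro σ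
      by_cases h : Equiv.Perm.sign σ = 1
      · exact ⟨(e.symm ⟨σ, Equiv.Perm.mem_alternatingGroup.2 h⟩ : X), by rw [hρX]; simp⟩
      · have h' : Equiv.Perm.sign (σ * (ρ z)⁻¹) = 1 := by
          rw [map_mul, map_inv, (Int.units_eq_one_or _).resolve_left h,
            (Int.units_eq_one_or _).resolve_left hodd]
          simp
        refine ⟨(e.symm ⟨_, Equiv.Perm.mem_alternatingGroup.2 h'⟩ : X) * z, ?_⟩
        rw [map_mul, hρX]
        simp
    obtain ⟨a, ha⟩ := hsurj (Equiv.swap 0 1)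
    obtain ⟨b, hb⟩ := hsurj (Equiv.swap 2 3)
    obtain ⟨d, hd⟩ := hsurj (Equiv.swap 4 5)
    have hi : ∀ u w : M, ρ u ≠ ρ w → u ≠ w := fun u w h e => h (congrArg ρ e)
    refine K.no_eight (a := a) (b := b) (d := d) (hρinj ?_) (hρinj ?_) (hρinj ?_) (hρinj ?_)
      (hρinj ?_) (hρinj ?_) (hi _ _ ?_) (hi _ _ ?_) (hi _ _ ?_) (hi _ _ ?_) (hi _ _ ?_) (hi _ _ ?_)
      (hi _ _ ?_)
    all_goals simp only [map_mul, map_one, ha, hb, hd]
    all_goals decide

open CfsgLib.AutPSL in
/-- `M` is `PSL₂(q)` or `PGL₂(q)`. -/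
theorem of_psl {F : Type} [Field F] [Fintype F] (hF : (2 : F) ≠ 0) (h3 : 3 < Fintype.card F)
    (e : X ≃* Matrix.ProjectiveSpecialLinearGroup (Fin 2) F)
    {z : M} (hzP : z ∈ P) (hz2 : z * z = 1) (hz1 : z ≠ 1)
    (B : Subgroup M) (hout : ∀ c, c * z = z * c → c ∉ B → c * c = 1)
    (hB : ∀ b ∈ B, b * b = 1 → b = 1 ∨ b = z) :
    (Nonempty (M ≃* Matrix.ProjectiveSpecialLinearGroup (Fin 2) F) ∨
      Nonempty (M ≃* Matrix.ProjGenLinGroup (Fin 2) F)) ∧
      (z ∉ X → 4 < Nat.card (centralizer ({z} : Set M))) := by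
  classical
  haveI : Fact (Nat.Prime 2) := ⟨Nat.prime_two⟩
  haveI := K.normal
  obtain ⟨c, hcC, hc2, hc1, huniq⟩ := K.dd.exists_c
  let ρ : M →* MulAut (PSLG 2 F) := (MulAut.congr e).toMonoidHom.comp MulAut.conjNormal
  have hρinj : Function.Injective ρ := (MulAut.congr e).injective.comp K.conjNormal_injective
  have hρX : ∀ x : X, ρ x = MulAut.conj (e x) := by
    intro x
    apply MulEquiv.ext
    intro y
    show e (MulAut.conjNormal (x : M) (e.symm y)) = _
    rw [show MulAut.conjNormal (x : M) (e.symm y) = x * e.symm y * x⁻¹ from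
      Subtype.ext (MulAut.conjNormal_apply _ _), map_mul, map_mul, map_inv, e.apply_symm_apply,
      MulAut.conj_apply]
  have hρconj : ∀ y : PSLG 2 F, ρ (e.symm y : M) = MulAut.conj y := fun y => by
    rw [hρX, e.apply_symm_apply]
  have hback : ∀ m : M, ∀ y : PSLG 2 F, ρ m = MulAut.conj y → m ∈ X := fun m y h => by
    rw [← hρconj] at h
    exact hρinj h ▸ (e.symm y).2
  have hsq : ∀ m : M, ∀ g, ρ m = conjAut g → IsSquare g.val.det → m ∈ X := fun m g hm h => by
    obtain ⟨y, hy⟩ := exists_conj_of_isSquare h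
    exact hback m y (hm.trans hy)
  -- no element of `M` induces an involutory field automorphism
  have hfield : ∀ t : M, ∀ σ : F ≃+* F, σ ≠ 1 → σ * σ = 1 → ρ t ≠ fieldAut σ := by
    intro t σ hσ hσ2 ht
    obtain ⟨a, b, ha1, hb1, hab, ha2, hb2, habc, hfa, hfb⟩ := exists_four_fixed hF σ
    have hinj : Function.Injective (fun y => ((e.symm y : X) : M)) :=
      Subtype.val_injective.comp e.symm.injective
    have hm : ∀ y y' : PSLG 2 F, ((e.symm (y * y') : X) : M) = (e.symm y : M) * (e.symm y' : M) :=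
      fun y y' => by rw [map_mul, Subgroup.coe_mul]
    have htX : ∀ y, t ≠ (e.symm y : M) := by
      intro y hy
      obtain ⟨s, rfl⟩ := QuotientGroup.mk_surjective y
      rw [hy, hρconj, ← conjAut_toGL] at ht
      refine hσ (field_eq_of_mul_conj (g := 1) (h := Matrix.SpecialLinearGroup.toGL s) ?_)
      rw [map_one, one_mul]
      exact ht.symm
    have ht2 : t * t = 1 := hρinj (by rw [map_mul, ht, ← map_mul, hσ2, map_one, map_one])
    have hcomm : ∀ y, fieldAut σ y = y → (e.symm y : M) * t = t * (e.symm y : M) := by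
      intro y hy
      apply hρinj
      rw [map_mul, map_mul, hρconj, ht]
      apply MulEquiv.ext
      intro w
      rw [MulAut.mul_apply, MulAut.mul_apply, MulAut.conj_apply, MulAut.conj_apply, map_mul, map_mul,
        map_inv, hy]
    have h1 : ((e.symm 1 : X) : M) = 1 := by rw [map_one, OneMemClass.coe_one]
    refine K.no_eight (a := (e.symm a : M)) (b := (e.symm b : M)) (d := t) ?_ ?_ ht2 ?_
      (hcomm a hfa) (hcomm b hfb) (h1 ▸ hinj.ne ha1) (h1 ▸ hinj.ne hb1) (hinj.ne hab)
      (h1 ▸ htX 1) (htX a) (htX b) ?_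
    · rw [← hm, ha2, h1]
    · rw [← hm, hb2, h1]
    · rw [← hm, ← hm, habc]
    · rw [← hm]; exact htX _
  -- involutions outside `X` are diagonal
  have houter : ∀ φ : M, φ * φ = 1 → φ ∉ X →
      ∃ g : GL (Fin 2) F, ρ φ = conjAut g ∧ ¬ IsSquare g.val.det := by
    intro φ hφ2 hφX
    obtain ⟨g, σ, hg⟩ := exists_conj_field (ρ φ)
    have hinv : conjAut g * fieldAut σ * (conjAut g * fieldAut σ) = 1 := by
      rw [← hg, ← map_mul, hφ2, map_one]
    by_cases hσ : σ = 1
    · subst hσ
      rw [map_one, mul_one] at hg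
      exact ⟨g, hg, fun h => hφX (hsq φ g hg h)⟩
    · exfalso
      obtain ⟨y, hy⟩ := exists_conj_of_isSquare (isSquare_det_of_involution hF hσ hinv)
      refine hfield ((e.symm y : M)⁻¹ * φ) σ hσ (involution_field hinv).1 ?_
      rw [map_mul, map_inv, hρconj, hg, hy, inv_mul_cancel_left]
  obtain ⟨v, hvX, hv2, hv1, hvz, hvc⟩ := K.exists_v hzP
  set W := X ⊔ centralizer ({z} : Set M) with hW
  have hXW : X ≤ W := le_sup_left
  have hzW : centralizer ({z} : Set M) ≤ W := le_sup_right
  have hzmem : z ∈ centralizer ({z} : Set M) := mem_centralizer_singleton_iff.2 rfl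
  have hWtop : ∀ m : M, m ∈ W := by
    intro m
    set w := m * z * m⁻¹ with hw
    have hw2 : w * w = 1 := by
      rw [hw, show m * z * m⁻¹ * (m * z * m⁻¹) = m * (z * z) * m⁻¹ by group, hz2, mul_one,
        mul_inv_cancel]
    have hback' : ∀ p ∈ W, p * w * p⁻¹ = z → m ∈ W := by
      intro p hp hpw
      have : p * m ∈ centralizer ({z} : Set M) := by
        rw [mem_centralizer_singleton_iff]
        calc p * m * z = p * w * p⁻¹ * (p * m) := by rw [hw]; group
          _ = z * (p * m) := by rw [hpw]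
      exact (W.mul_mem_cancel_left hp).1 (hzW this)
    by_cases hzX : z ∈ X
    · have hwX : w ∈ X := K.normal.conj_mem z hzX m
      obtain ⟨x1, hx1, hxw⟩ := K.conj_c huniq hwX hw2 (fun h => hz1 (conj_eq_one_iff.1 (hw.symm.trans h)))
      obtain ⟨x2, hx2, hxz⟩ := K.conj_c huniq hzX hz2 hz1
      refine hback' (x2⁻¹ * x1) (hXW (mul_mem (inv_mem hx2) hx1)) ?_
      rw [show x2⁻¹ * x1 * w * (x2⁻¹ * x1)⁻¹ = x2⁻¹ * (x1 * w * x1⁻¹) * x2 by group, hxw, ← hxz]
      group
    · obtain ⟨g, hg, hgns⟩ := houter z hz2 hzX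
      obtain ⟨k, σ, hk⟩ := exists_conj_field (ρ m)
      have hwρ : ρ w = conjAut (k * glField σ g * k⁻¹) := by
        rw [hw, map_mul, map_mul, map_inv, hk, hg, conj_conjAut]
      have hd : ¬ IsSquare (k * glField σ g * k⁻¹).val.det := by
        rw [show (k * glField σ g * k⁻¹).val.det = σ g.val.det by
          simp only [Units.val_mul]
          rw [det_gl_conj, det_glField]]
        rintro ⟨r, hr⟩
        exact hgns ⟨σ.symm r, σ.injective (by rw [hr, map_mul, σ.apply_symm_apply])⟩
      have hwz : w * z⁻¹ ∈ X := by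
        refine hsq _ (k * glField σ g * k⁻¹ * g⁻¹) (by rw [map_mul, map_inv, hwρ, hg]; rw [← map_inv, ← map_mul]) ?_
        have hprod := isSquare_mul hF (det_ne_zero _) (det_ne_zero g) hd hgns
        rw [Units.val_mul, Matrix.det_mul]
        rw [show (g⁻¹).val.det = g.val.det / (g.val.det * g.val.det) by
          have h : (g⁻¹).val.det * g.val.det = 1 := by
            rw [← Matrix.det_mul, ← Units.val_mul, inv_mul_cancel, Units.val_one, Matrix.det_one]
          rw [eq_div_iff (mul_ne_zero (det_ne_zero g) (det_ne_zero g)), ← mul_assoc, h, one_mul],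
          mul_div_assoc']
        exact hprod.div ⟨_, rfl⟩
      have hwW : w ∈ W := by
        have := mul_mem (hXW hwz) (hzW hzmem)
        rwa [inv_mul_cancel_right] at this
      have hP0 : ¬ (P : Subgroup M) ≤ (P : Subgroup M) ⊓ X := fun h => hzX (h hzP).2
      have hPW : (P : Subgroup M) ≤ W := by
        intro p hp
        by_cases hpX : p ∈ X
        · exact hXW hpX
        · have := K.dd.mul_mem_of_not_mem inf_le_left (fun q hq a ha => K.conj_mem hq ha) K.not_cyclic
            hp hzP (fun h => hpX h.2) (fun h => hzX h.2)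
          have h' := mul_mem (hXW this.2) (inv_mem (hzW hzmem))
          rwa [mul_inv_cancel_right] at h'
      set PW : Sylow 2 W := P.subtype hPW with hPWdef
      obtain ⟨y, hy⟩ := CfsgLib.Involutions.exists_conj_le_sylow
        (CfsgLib.Involutions.isPGroup_two_zpowers (show orderOf (⟨w, hwW⟩ : W) = 2 by
          rw [← Subgroup.orderOf_coe]
          exact orderOf_of_sq hw2 (fun h => hz1 (conj_eq_one_iff.1 (hw.symm.trans h))))) PW
      have hyP : (y : M) * w * (y : M)⁻¹ ∈ P := hy _ (mem_zpowers _)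
      have hwX : w ∉ X := fun h => hzX (by
        have := mul_mem (inv_mem hwz) h
        rwa [mul_inv_rev, inv_inv, inv_mul_cancel_right] at this)
      have hyX : (y : M) * w * (y : M)⁻¹ ∉ X := fun h => hwX (by
        have := K.normal.conj_mem _ h (y : M)⁻¹
        simpa [mul_assoc] using this)
      obtain ⟨p, hp, hpc⟩ := K.dd.outer_conj inf_le_left (fun q hq a ha => K.conj_mem hq ha)
        K.not_cyclic hyP hzP (fun h => hyX h.2) (fun h => hzX h.2)
        (by rw [show (y : M) * w * (y : M)⁻¹ * ((y : M) * w * (y : M)⁻¹) = y * (w * w) * (y : M)⁻¹ by group,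
              hw2, mul_one, mul_inv_cancel]) hz2
      refine hback' (p * y) (mul_mem (hPW hp) y.2) ?_
      rw [← hpc]
      group
  have hexp : ∀ m : M, m * m ∈ X := by
    intro m
    obtain ⟨x, hx, d, hd, rfl⟩ := Subgroup.mem_sup_of_normal_left.1 (hWtop m)
    have hdz : d * z = z * d := mem_centralizer_singleton_iff.1 hd
    have hd2 : d * d ∈ X := by
      by_cases hdB : d ∈ B
      · have hvB : v ∉ B := fun h => (hB v h hv2).elim hv1 hvz
        have hvd : v * d * (v * d) = 1 := hout _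
          (by rw [mul_assoc, hdz, ← mul_assoc, hvc, mul_assoc])
          (fun h => hvB ((B.mul_mem_cancel_right hdB).1 h))
        have e1 : v * d⁻¹ * v = d := by
          have : d⁻¹ = v * d * v :=
            inv_eq_of_mul_eq_one_left (by rw [show v * d * v * d = v * d * (v * d) by group, hvd])
          rw [this, show v * (v * d * v) * v = v * v * d * (v * v) by group, hv2, one_mul, mul_one]
        have h' := mul_mem (K.normal.conj_mem v hvX d) hvX
        rwa [show d * v * d⁻¹ * v = d * (v * d⁻¹ * v) by group, e1] at h'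
      · rw [hout d hdz hdB]; exact one_mem X
    rw [show x * d * (x * d) = x * (d * x * d⁻¹) * (d * d) by group]
    exact mul_mem (mul_mem hx (K.normal.conj_mem x hx d)) hd2
  have hsup : (P : Subgroup M) ⊔ X = ⊤ := by
    refine CfsgLib.Transfer.sylow_sup_eq_top P X fun q => ?_
    obtain ⟨m, rfl⟩ := QuotientGroup.mk_surjective q
    exact ⟨1, by rw [pow_one, pow_two, ← QuotientGroup.mk_mul]; exact (QuotientGroup.eq_one_iff _).2 (hexp m)⟩
  have hsplit : ∀ m : M, ∃ p ∈ (P : Subgroup M), ∃ x ∈ X, p * x = m := fun m =>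
    Subgroup.mem_sup_of_normal_right.1 (hsup ▸ mem_top m)
  by_cases hPX : (P : Subgroup M) ≤ X
  · have hX : X = ⊤ := top_le_iff.1 (hsup ▸ sup_le hPX le_rfl)
    exact ⟨Or.inl ⟨Subgroup.topEquiv.symm.trans ((MulEquiv.subgroupCongr hX.symm).trans e)⟩,
      fun h => absurd (hX ▸ mem_top z) h⟩
  · obtain ⟨p0, hp0, hp0X⟩ := SetLike.not_le_iff_exists.1 hPX
    obtain ⟨φ, hφP, hφX', hφ2⟩ := K.dd.exists_outer inf_le_left (fun q hq a ha => K.conj_mem hq ha)
      K.not_cyclic hp0 (fun h => hp0X h.2)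
    have hφX : φ ∉ X := fun h => hφX' ⟨hφP, h⟩
    obtain ⟨g, hg, hgns⟩ := houter φ hφ2 hφX
    have hrange : ρ.range = (conjAut (n := 2) (F := F)).range := by
      apply le_antisymm
      · rintro _ ⟨m, rfl⟩
        have hX : ∀ x ∈ X, ρ x ∈ (conjAut (n := 2) (F := F)).range := by
          intro x hx
          obtain ⟨s, hs⟩ := QuotientGroup.mk_surjective (e ⟨x, hx⟩)
          exact ⟨Matrix.SpecialLinearGroup.toGL s, by rw [conjAut_toGL, hs]; exact (hρX ⟨x, hx⟩).symm⟩
        obtain ⟨p, hp, x, hx, rfl⟩ := hsplit m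
        rw [map_mul]
        refine mul_mem ?_ (hX x hx)
        by_cases hpX : p ∈ X
        · exact hX p hpX
        · have h1 := hX _ (K.dd.mul_mem_of_not_mem inf_le_left (fun q hq a ha => K.conj_mem hq ha)
            K.not_cyclic hp hφP (fun h => hpX h.2) (fun h => hφX h.2)).2
          rw [map_mul] at h1
          exact ((conjAut (n := 2) (F := F)).range.mul_mem_cancel_right ⟨g, hg.symm⟩).1 h1
      · rintro _ ⟨k, rfl⟩
        by_cases hk : IsSquare k.val.det
        · obtain ⟨y, hy⟩ := exists_conj_of_isSquare hk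
          exact ⟨_, (hρconj y).trans hy.symm⟩
        · obtain ⟨y, hy⟩ := exists_conj_of_isSquare (g := k * g) (by
            rw [Units.val_mul, Matrix.det_mul]
            exact isSquare_mul hF (det_ne_zero k) (det_ne_zero g) hk hgns)
          refine ⟨(e.symm y : M) * φ⁻¹, ?_⟩
          rw [map_mul, map_inv, hρconj, ← hy, hg, map_mul, mul_inv_cancel_right]
    refine ⟨Or.inr ⟨?_⟩, fun hzX => ?_⟩
    · have hker : (conjAut (n := 2) (F := F)).ker = Subgroup.center (GL (Fin 2) F) := by
        ext k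
        rw [MonoidHom.mem_ker, conjAut_eq_one_iff le_rfl,
          Matrix.GeneralLinearGroup.center_eq_range_scalar, MonoidHom.mem_range]
        exact ⟨fun ⟨u, h⟩ => ⟨u, h.symm⟩, fun ⟨u, h⟩ => ⟨u, h.symm⟩⟩
      exact (MonoidHom.ofInjective hρinj).trans ((MulEquiv.subgroupCongr hrange).trans
        ((QuotientGroup.quotientKerEquivRange _).symm.trans
          (QuotientGroup.quotientMulEquivOfEq hker)))
    · obtain ⟨g', hg', hgns'⟩ := houter z hz2 hzX
      obtain ⟨f, hfinj, hfc⟩ := five_commuting hF h3 hgns'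
        (by rw [← hg', ← map_mul, hz2, map_one])
      have hm : ∀ i, ∃ m, ρ m = conjAut (f i) := fun i => by
        have : conjAut (f i) ∈ ρ.range := hrange ▸ ⟨f i, rfl⟩
        exact this
      choose m hm using hm
      have hmc : ∀ i, m i ∈ centralizer ({z} : Set M) := fun i => by
        rw [mem_centralizer_singleton_iff]
        apply hρinj
        rw [map_mul, map_mul, hm, hg']
        exact (hfc i).eq
      have hmi : Function.Injective fun i => (⟨m i, hmc i⟩ : centralizer ({z} : Set M)) := by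
        intro i j h
        apply hfinj
        show conjAut (f i) = conjAut (f j)
        rw [← hm, ← hm, show m i = m j from congrArg Subtype.val h]
      have := Nat.card_le_card_of_injective _ hmi
      rw [Nat.card_fin] at this
      omega

end Ctx

/-- The main step from the classification of perfect groups with dihedral Sylow 2-subgroups. -/
theorem psl_or_pgl (hGW : DihedralClassification.{u}) (hns : ¬ Group.IsSolvable M)
    (hO : ∀ N : Subgroup M, N.Normal → Odd (Nat.card N) → N = ⊥) (P : Sylow 2 M) {C : Subgroup M}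
    (D : DihData (P : Subgroup M) C) {z : M} (hzP : z ∈ P) (hz : orderOf z = 2) (B : Subgroup M)
    (hout : ∀ c, c * z = z * c → c ∉ B → c * c = 1)
    (hB : ∀ b ∈ B, b * b = 1 → b = 1 ∨ b = z) :
    ∃ (F : Type) (_ : Field F) (_ : Fintype F), Odd (Fintype.card F) ∧ 3 < Fintype.card F ∧
      (Nonempty (M ≃* Matrix.ProjectiveSpecialLinearGroup (Fin 2) F) ∨
        Nonempty (M ≃* Matrix.ProjGenLinGroup (Fin 2) F)) ∧
      ∀ N : Subgroup M, N.index = 2 → z ∉ N → 4 < Nat.card (centralizer ({z} : Set M)) := by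
  haveI : Fact (Nat.Prime 2) := ⟨Nat.prime_two⟩
  obtain ⟨X, hXn, hperf, hXb⟩ := exists_perfect_normal hns
  have K : Ctx P C X := ⟨D, hO, hXn, hperf, hXb⟩
  haveI := K.isPerfect
  have hz2 := CfsgLib.Involutions.mul_self_eq_one hz
  have hz1 := CfsgLib.Involutions.ne_one_of_involution hz
  have hcore : Cfsg.oddCore X = ⊥ := by
    haveI := hXn
    refine (Subgroup.map_eq_bot_iff_of_injective _ X.subtype_injective).1 (hO _ inferInstance ?_)
    rw [Subgroup.card_subtype, ← Nat.not_even_iff_odd, even_iff_two_dvd]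
    exact CfsgLib.PCore.not_dvd_card_pPrimeCore
  have eX : X ⧸ Cfsg.oddCore X ≃* X :=
    (QuotientGroup.quotientMulEquivOfEq hcore).trans QuotientGroup.quotientBot
  obtain ⟨S, n, hn, hS⟩ := K.nonempty_equiv_dihedral
  rcases hGW X S n hn hS with ⟨F, iF, iF', hodd, h3, ⟨ψ⟩⟩ | hψ
  · refine ⟨F, iF, iF', hodd, h3, ?_⟩
    have hF : (2 : F) ≠ 0 := by
      intro h
      haveI : CharP F 2 := CharTwo.of_one_ne_zero_of_two_eq_zero one_ne_zero h
      obtain ⟨k, -, hk⟩ := FiniteField.card F 2
      rw [hk] at hodd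
      exact (Nat.not_even_iff_odd.2 hodd) (Nat.even_pow.2 ⟨even_two, k.ne_zero⟩)
    obtain ⟨h1, h2⟩ := K.of_psl hF h3 (eX.symm.trans ψ) hzP hz2 hz1 B hout hB
    exact ⟨h1, fun N hN hzN => h2 fun hzX => hzN (perfect_le_of_index_two hperf hN hzX)⟩
  · obtain ⟨ψ⟩ := hψ
    exact (K.false_of_alternating (eX.symm.trans ψ) hz2 hz1 B hout hB).elim

end CfsgLib.DGroup
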