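import Mathlib
import Cfsg.Agent.Lib.DGroup.Outer
import Cfsg.Agent.Lib.StrongEmbedding.PSLTwo
import Cfsg.Agent.Lib.Involutions.Fusion
import Cfsg.Agent.Lib.Recog.ClassSizesPSLTwoSplit

/-!
`SL₂` over finite fields of characteristic two: upper unitriangular Sylow subgroup, conjugacy of
involutions, and automorphisms fixing the unitriangular group pointwise.
-/

set_option autoImplicit false

namespace CfsgLib.DGroup

open Matrix CfsgLib.AutPSL

variable {F : Type} [Field F]

/-- An upper unitriangular matrix. -/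
def uEl (a : F) : SLG 2 F := ⟨!![1, a; 0, 1], by simp [Matrix.det_fin_two]⟩

theorem uEl_coe (a : F) : (uEl a).1 = !![1, a; 0, 1] := rfl

/-- Upper unitriangular matrices. -/
def uHom : Multiplicative F →* SLG 2 F where
  toFun a := uEl a.toAdd
  map_one' := by ext i j; fin_cases i <;> fin_cases j <;> simp [uEl_coe]
  map_mul' a b := by
    ext i j
    fin_cases i <;> fin_cases j <;>
      simp [SpecialLinearGroup.coe_mul, uEl_coe, Matrix.mul_apply, Fin.sum_univ_two, add_comm]

theorem uHom_apply (a : Multiplicative F) : uHom a = uEl a.toAdd := rfl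

theorem uHom_injective : Function.Injective (uHom : Multiplicative F →* SLG 2 F) := by
  intro a b h
  have h' := congrArg (fun k : SLG 2 F => k.1 0 1) h
  simp only [uHom_apply, uEl_coe] at h'
  exact Multiplicative.toAdd.injective (by simpa using h')

/-- The diagonal matrix `diag(r, r⁻¹)`. -/
def dEl (r : Fˣ) : SLG 2 F := ⟨!![(r : F), 0; 0, (r⁻¹ : Fˣ)], by simp [Matrix.det_fin_two]⟩

theorem dEl_coe (r : Fˣ) : (dEl r).1 = !![(r : F), 0; 0, (r⁻¹ : Fˣ)] := rfl

theorem dEl_conj (r : Fˣ) (a : F) : dEl r * uEl a = uEl ((r : F) * r * a) * dEl r := by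
  ext i j
  fin_cases i <;> fin_cases j <;>
    simp [SpecialLinearGroup.coe_mul, uEl_coe, dEl_coe, Matrix.mul_apply, Fin.sum_univ_two]
  field_simp

variable [Fintype F] [DecidableEq F] [CharP F 2]

theorem exists_sylow_unitriangular :
    ∃ S : Sylow 2 (SLG 2 F), ∀ s ∈ S, ∃ a : F, s = uEl a := by
  haveI : Fact (Nat.Prime 2) := ⟨Nat.prime_two⟩
  obtain ⟨n, -, hn⟩ := FiniteField.card F 2
  have hcard : Nat.card (uHom (F := F)).range = 2 ^ (n : ℕ) := by
    rw [← Nat.card_congr (MonoidHom.ofInjective uHom_injective).toEquiv,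
      Nat.card_congr Multiplicative.toAdd, Nat.card_eq_fintype_card, hn]
  have hp : IsPGroup 2 (uHom (F := F)).range := IsPGroup.of_card hcard
  have hmul := (uHom (F := F)).range.card_mul_index
  rw [hcard, show Nat.card (SLG 2 F) = _ from CfsgLib.StrongEmbedding.PSLTwo.card_sl_two, hn] at hmul
  have hidx : ¬ 2 ∣ (uHom (F := F)).range.index := by
    have he : (uHom (F := F)).range.index = (2 ^ (n : ℕ) + 1) * (2 ^ (n : ℕ) - 1) := by
      refine Nat.eq_of_mul_eq_mul_left (pow_pos two_pos (n : ℕ)) ?_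
      rw [hmul]; ring
    rw [he]
    intro h
    have h2 : 2 ∣ 2 ^ (n : ℕ) := dvd_pow_self 2 n.ne_zero
    rcases Nat.prime_two.dvd_mul.1 h with h | h
    · omega
    · have := Nat.one_le_two_pow (n := (n : ℕ))
      omega
  refine ⟨hp.toSylow hidx, fun s hs => ?_⟩
  obtain ⟨a, ha⟩ := hs
  exact ⟨a.toAdd, ha.symm.trans (uHom_apply a)⟩

theorem uEl_sq (a : F) : uEl a * uEl a = 1 := by
  rw [show uEl a = uHom (Multiplicative.ofAdd a) from rfl, ← map_mul, ← ofAdd_add, CharTwo.add_self_eq_zero, ofAdd_zero, map_one]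

omit [CharP F 2] in
theorem uEl_ne_one {a : F} (ha : a ≠ 0) : uEl a ≠ 1 := by
  intro h
  have := congrArg (fun k : SLG 2 F => k.1 0 1) h
  simp [uEl_coe] at this
  exact ha this

/-- All involutions are conjugate to `uEl 1`. -/
theorem involution_conj {s : SLG 2 F} (hs2 : s * s = 1) (hs1 : s ≠ 1) :
    ∃ k, k * s * k⁻¹ = uEl 1 := by
  haveI : Fact (Nat.Prime 2) := ⟨Nat.prime_two⟩
  obtain ⟨S, hS⟩ := exists_sylow_unitriangular (F := F)
  obtain ⟨g, hg⟩ := CfsgLib.Involutions.exists_conj_le_sylow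
    (CfsgLib.Involutions.isPGroup_two_zpowers
      (orderOf_eq_prime (by rw [pow_two, hs2]) hs1)) S
  obtain ⟨a, ha⟩ := hS _ (hg s (Subgroup.mem_zpowers s))
  have ha0 : a ≠ 0 := by
    rintro rfl
    rw [show uEl (0 : F) = 1 from map_one uHom, conj_eq_one_iff] at ha
    exact hs1 ha
  obtain ⟨r, hr⟩ := FiniteField.isSquare_of_char_two (ringChar.eq F 2) a⁻¹
  have hr0 : r ≠ 0 := by rintro rfl; exact inv_ne_zero ha0 (by rw [hr, mul_zero])
  refine ⟨dEl (Units.mk0 r hr0) * g, ?_⟩
  rw [show dEl (Units.mk0 r hr0) * g * s * (dEl (Units.mk0 r hr0) * g)⁻¹ =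
    dEl (Units.mk0 r hr0) * (g * s * g⁻¹) * (dEl (Units.mk0 r hr0))⁻¹ by group, ha, dEl_conj,
    mul_inv_cancel_right]
  congr 1
  rw [Units.val_mk0, ← hr, inv_mul_cancel₀ ha0]

omit [CharP F 2] in
theorem field_conj_uEl (σ : F ≃+* F) (a : F) : slField σ (uEl a) = uEl (σ a) := by
  ext i j
  fin_cases i <;> fin_cases j <;> simp [slField_coe, uEl_coe]

/-- An automorphism fixing the unitriangular group pointwise is conjugation by one of its elements. -/
theorem exists_uEl_of_fix (β : MulAut (SLG 2 F)) (h : ∀ a, β (uEl a) = uEl a) :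
    ∃ b, ∀ s, β s = uEl b * s * (uEl b)⁻¹ := by
  have hZ := CfsgLib.StrongEmbedding.PSLTwo.center_sl_two_eq_bot (F := F)
  have hinj : ∀ s t : SLG 2 F, (QuotientGroup.mk s : PSLG 2 F) = QuotientGroup.mk t → s = t := by
    intro s t e
    rw [QuotientGroup.eq, hZ, Subgroup.mem_bot] at e
    exact inv_mul_eq_one.1 e
  obtain ⟨g, σ, hg⟩ := exists_conj_field (descendAut (SLG 2 F) β)
  have hact : ∀ s, β s = slConj g (slField σ s) := by
    intro s
    apply hinj
    rw [← descendAut_mk, hg, MulAut.mul_apply, fieldAut_mk, conjAut_mk]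
  have hrow : ∀ a : F, g.val * !![1, σ a; 0, 1] = !![1, a; 0, 1] * g.val := by
    intro a
    have e := congrArg Subtype.val ((hact (uEl a)).symm.trans (h a))
    rw [slConj_coe, field_conj_uEl, uEl_coe, uEl_coe] at e
    rw [← e, Matrix.mul_assoc, ← Units.val_mul, inv_mul_cancel, Units.val_one, Matrix.mul_one]
  have h1 := hrow 1
  rw [map_one] at h1
  have e00 := congrFun (congrFun h1 0) 0
  have e01 := congrFun (congrFun h1 0) 1
  simp [Matrix.mul_apply, Fin.sum_univ_two] at e00 e01
  have hc : g.val 1 0 = 0 := e00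
  have hd : g.val 1 1 = g.val 0 0 := by linear_combination -e01
  have ha0 : g.val 0 0 ≠ 0 := by
    intro h0
    apply det_ne_zero g
    rw [Matrix.det_fin_two, hc, hd, h0]; ring
  have hσ : σ = 1 := by
    apply RingEquiv.ext
    intro a
    have e := congrFun (congrFun (hrow a) 0) 1
    simp [Matrix.mul_apply, Fin.sum_univ_two, hd] at e
    refine mul_left_cancel₀ ha0 ?_
    show g.val 0 0 * σ a = g.val 0 0 * a
    linear_combination e
  refine ⟨g.val 0 1 / g.val 0 0, fun s => ?_⟩
  set b := g.val 0 1 / g.val 0 0 with hb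
  have hgb : g = GeneralLinearGroup.scalar (Fin 2) (Units.mk0 _ ha0) *
      SpecialLinearGroup.toGL (uEl b) := by
    apply Units.ext
    rw [Units.val_mul, GeneralLinearGroup.coe_scalar]
    show g.val = Matrix.scalar (Fin 2) (g.val 0 0) * !![1, b; 0, 1]
    ext i j
    fin_cases i <;> fin_cases j <;> simp [hc, hd, hb, mul_div_cancel₀ _ ha0]
  apply hinj
  rw [← descendAut_mk, hg, hσ, map_one, mul_one, hgb, map_mul, conjAut_scalar, one_mul, conjAut_toGL,
    MulAut.conj_apply, QuotientGroup.mk_mul, QuotientGroup.mk_mul, QuotientGroup.mk_inv]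

theorem four_le_card (hns : ¬ Group.IsSolvable (SLG 2 F)) : 4 ≤ Fintype.card F := by
  by_contra h
  obtain ⟨n, -, hn⟩ := FiniteField.card F 2
  have h2 : Fintype.card F = 2 := by
    rcases Nat.lt_or_ge (n : ℕ) 2 with h1 | h1
    · rw [hn, show (n : ℕ) = 1 by have := n.pos; omega, pow_one]
    · have := Nat.pow_le_pow_right two_pos h1
      omega
  apply hns
  haveI : IsZGroup (SLG 2 F) := IsZGroup.of_squarefree (by
    rw [show Nat.card (SLG 2 F) = _ from CfsgLib.StrongEmbedding.PSLTwo.card_sl_two, h2]; decide +kernel)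
  infer_instance

end CfsgLib.DGroup
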