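import Mathlib
import Cfsg.Agent.Lib.Involutions.BrauerSuzuki
import Cfsg.Agent.Lib.PF.OddOrder

/-!
Groups `H` with a proper subgroup `A` outside of which every element squares to one, embedded as
centralizers of their central involutions.
-/

set_option autoImplicit false

namespace CfsgLib.DGroup

open Subgroup

universe u

variable {G : Type u} [Group G]

/-- `H` is a D-group relative to `A` and is the centralizer of each of its central involutions. -/
structure DHyp (H A : Subgroup G) : Prop where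
  lt : A < H
  out : ∀ x ∈ H, x ∉ A → x * x = 1
  four : 4 ∣ Nat.card H
  cent : ∀ j ∈ H, orderOf j = 2 → (∀ h ∈ H, h * j = j * h) →
    Subgroup.centralizer ({j} : Set G) = H

theorem isPGroup_of_sq {P : Type*} [Group P] (h : ∀ a : P, a * a = 1) : IsPGroup 2 P :=
  fun a => ⟨1, by rw [pow_one, pow_two]; exact h a⟩

theorem isSolvable_of_isPGroup {P : Type*} [Group P] [Finite P] (h : IsPGroup 2 P) :
    Group.IsSolvable P := by
  haveI : Fact (Nat.Prime 2) := ⟨Nat.prime_two⟩
  haveI := h.isNilpotent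
  infer_instance

theorem isSolvable_of_sq {P : Type*} [Group P] [Finite P] (h : ∀ a : P, a * a = 1) :
    Group.IsSolvable P :=
  isSolvable_of_isPGroup (isPGroup_of_sq h)

/-- A group with a cyclic Sylow 2-subgroup is solvable. -/
theorem isSolvable_of_cyclic_sylow [Finite G] (Q : Sylow 2 G) (hQ : IsCyclic (Q : Subgroup G)) :
    Group.IsSolvable G := by
  haveI : Fact (Nat.Prime 2) := ⟨Nat.prime_two⟩
  by_cases heven : 2 ∣ Nat.card G
  · have hnc : ¬ 2 ∣ Nat.card (Cfsg.pResidual 2 G) := CfsgLib.Transfer.hasNormalPComplement_iff.mp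
      (CfsgLib.Transfer.hasNormalPComplement_of_normalizer_le Q
        (IsCyclic.normalizer_le_centralizer ((Nat.minFac_eq_two_iff _).mpr heven) hQ))
    haveI : (Cfsg.pResidual 2 G).Normal := CfsgLib.Transfer.pResidual_normal
    refine (Group.isSolvable_iff_subgroup_quotient (Cfsg.pResidual 2 G)).2 ⟨?_, ?_⟩
    · exact CfsgLib.PF.oddSolvable _ (Nat.not_even_iff_odd.1 fun h => hnc h.two_dvd)
    · exact isSolvable_of_isPGroup (CfsgLib.Transfer.isPGroup_quotient_of_pResidual_le _ le_rfl)
  · exact CfsgLib.PF.oddSolvable G (Nat.not_even_iff_odd.1 fun h => heven h.two_dvd)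

/-- A group with a normal Sylow 2-subgroup is solvable. -/
theorem isSolvable_of_normal_sylow [Finite G] (Q : Sylow 2 G) (hQ : (Q : Subgroup G).Normal) :
    Group.IsSolvable G := by
  haveI : Fact (Nat.Prime 2) := ⟨Nat.prime_two⟩
  haveI := hQ
  refine (Group.isSolvable_iff_subgroup_quotient (Q : Subgroup G)).2
    ⟨isSolvable_of_isPGroup Q.2, CfsgLib.PF.oddSolvable _ ?_⟩
  rw [← Nat.not_even_iff_odd, even_iff_two_dvd]
  exact Q.not_dvd_index

namespace DHyp

variable {H A : Subgroup G} (D : DHyp H A)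
include D

theorem exists_out : ∃ x ∈ H, x ∉ A := SetLike.exists_of_lt D.lt |>.imp fun _ h => h

theorem inverts {x a : G} (hx : x ∈ H) (hxA : x ∉ A) (ha : a ∈ A) : x * a * x = a⁻¹ := by
  have h := D.out (x * a) (mul_mem hx (D.lt.le ha)) fun h => hxA ((A.mul_mem_cancel_right ha).1 h)
  exact eq_inv_of_mul_eq_one_left (by simpa [mul_assoc] using h)

theorem comm_A {a b : G} (ha : a ∈ A) (hb : b ∈ A) : a * b = b * a := by
  obtain ⟨x, hx, hxA⟩ := D.exists_out
  have h : x * (a * b) * x = (x * a * x) * (x * b * x) := by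
    rw [show (x * a * x) * (x * b * x) = x * a * (x * x) * b * x by group, D.out x hx hxA]
    group
  rw [D.inverts hx hxA (mul_mem ha hb), D.inverts hx hxA ha, D.inverts hx hxA hb] at h
  have h' := congrArg Inv.inv h
  simpa using h'

theorem central {a h : G} (ha : a ∈ A) (ha2 : a * a = 1) (hh : h ∈ H) : h * a = a * h := by
  by_cases hhA : h ∈ A
  · exact D.comm_A hhA ha
  · have e := D.inverts hh hhA ha
    rw [inv_eq_of_mul_eq_one_right ha2] at e
    calc h * a = h * a * (h * h) := by rw [D.out h hh hhA, mul_one]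
      _ = h * a * h * h := by group
      _ = a * h := by rw [e]

theorem centralizer_eq {a : G} (ha : a ∈ A) (ha2 : a * a = 1) (ha1 : a ≠ 1) :
    Subgroup.centralizer ({a} : Set G) = H :=
  D.cent a (D.lt.le ha) (orderOf_eq_prime (by rw [pow_two, ha2]) ha1)
    fun _ hh => D.central ha ha2 hh

/-- Either every element of `H` squares to one, or `A` has index two in `H`. -/
theorem index_two (h : ¬ ∀ x ∈ H, x * x = 1) {x y : G} (hx : x ∈ H) (hy : y ∈ H) (hxA : x ∉ A)
    (hyA : y ∉ A) : x * y ∈ A := by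
  by_contra hxy
  apply h
  intro w hw
  by_cases hwA : w ∈ A
  · have e := D.inverts (mul_mem hx hy) hxy hwA
    have h3 : x * y * w * (x * y) = w := by
      have hxy2 := D.out _ (mul_mem hx hy) hxy
      calc x * y * w * (x * y) = x * (y * w * y) * (y * y)⁻¹ * (y * x * y) := by group
        _ = x * w⁻¹ * (y * x * y) := by rw [D.inverts hy hyA hwA, D.out y hy hyA]; group
        _ = x * w⁻¹ * x := by
          congr 1
          calc y * x * y = x⁻¹ * (x * y * (x * y)) := by group
            _ = x := by rw [hxy2, mul_one, inv_eq_of_mul_eq_one_right (D.out x hx hxA)]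
        _ = w := by rw [D.inverts hx hxA (inv_mem hwA), inv_inv]
    rw [e] at h3
    nth_rewrite 2 [← h3]
    exact mul_inv_cancel w
  · exact D.out w hw hwA

/-- A central element of `H` squaring to one lies in `A` when `A` is not elementary abelian. -/
theorem mem_A_of_central (h : ¬ ∀ x ∈ H, x * x = 1) {j : G} (hj : j ∈ H)
    (hc : ∀ a ∈ A, a * j = j * a) : j ∈ A := by
  by_contra hjA
  apply h
  intro w hw
  by_cases hwA : w ∈ A
  · have e := D.inverts hj hjA hwA
    rw [← hc w hwA, mul_assoc, D.out j hj hjA, mul_one] at e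
    nth_rewrite 2 [e]
    exact mul_inv_cancel w
  · exact D.out w hw hwA

theorem mem_A_of_conj (h : ¬ ∀ x ∈ H, x * x = 1) {g a : G} (hg : g ∈ normalizer (H : Set G))
    (ha : a ∈ A) (ha2 : a * a = 1) : g * a * g⁻¹ ∈ A := by
  have hmem : ∀ w, w ∈ H ↔ g * w * g⁻¹ ∈ H := Subgroup.mem_normalizer_iff.1 hg
  refine D.mem_A_of_central h ((hmem a).1 (D.lt.le ha)) fun b hb => ?_
  have hb' : g⁻¹ * b * g ∈ H := by
    rw [hmem (g⁻¹ * b * g), show g * (g⁻¹ * b * g) * g⁻¹ = b by group]
    exact D.lt.le hb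
  calc b * (g * a * g⁻¹) = g * ((g⁻¹ * b * g) * a) * g⁻¹ := by group
    _ = g * (a * (g⁻¹ * b * g)) * g⁻¹ := by rw [D.central ha ha2 hb']
    _ = g * a * g⁻¹ * b := by group

end DHyp

theorem centralizer_conj {g a : G} {H : Subgroup G}
    (h : Subgroup.centralizer ({a} : Set G) = H) (w : G) :
    g * w * g⁻¹ ∈ Subgroup.centralizer ({g * a * g⁻¹} : Set G) ↔ w ∈ H := by
  rw [← h, mem_centralizer_singleton_iff, mem_centralizer_singleton_iff]
  have e1 : g * w * g⁻¹ * (g * a * g⁻¹) = g * (w * a) * g⁻¹ := by group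
  have e2 : g * a * g⁻¹ * (g * w * g⁻¹) = g * (a * w) * g⁻¹ := by group
  rw [e1, e2]
  exact ⟨fun e => mul_left_cancel (mul_right_cancel e), fun e => by rw [e]⟩

end CfsgLib.DGroup
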