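import Mathlib
import Cfsg.Agent.S2202
import Cfsg.Agent.Lib.DGroup.Setup
import Cfsg.Agent.Lib.DGroup.SLTwo
import Cfsg.Agent.Lib.GammaRankOne.Two
import Cfsg.Agent.Lib.Laws.Embed

/-!
D-group centralizers with elementary `H` or with at least two central involutions.
-/

set_option autoImplicit false

namespace CfsgLib.DGroup

open Subgroup CfsgLib.AutPSL

universe u

/-- The conclusion: `G/N` is `PSL₂` or `PGL₂` with `|N|` odd or twice odd. -/
def Concl (G : Type u) [Group G] : Prop :=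
  ∃ (N : Subgroup G) (_ : N.Normal), (Odd (Nat.card ↥N) ∨ ∃ m : ℕ, Odd m ∧ Nat.card ↥N = 2 * m) ∧
    ∃ (F : Type) (_ : Field F) (_ : Fintype F), 3 < Fintype.card F ∧
      (Nonempty (G ⧸ N ≃* Matrix.ProjectiveSpecialLinearGroup (Fin 2) F) ∨
        Nonempty (G ⧸ N ≃* Matrix.ProjGenLinGroup (Fin 2) F))

variable {G : Type u} [Group G] [Finite G]

omit [Finite G] in
theorem concl_of_sl (N : Subgroup G) [N.Normal]
    (hN : Odd (Nat.card ↥N) ∨ ∃ m : ℕ, Odd m ∧ Nat.card ↥N = 2 * m)
    {F : Type} [Field F] [Fintype F] [CharP F 2] (h4 : 4 ≤ Fintype.card F)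
    (e : G ⧸ N ≃* SLG 2 F) : Concl G := by
  classical
  have hbij : Function.Bijective (QuotientGroup.mk' (Subgroup.center (SLG 2 F))) :=
    ⟨by rw [← MonoidHom.ker_eq_bot_iff, QuotientGroup.ker_mk',
          CfsgLib.StrongEmbedding.PSLTwo.center_sl_two_eq_bot],
      QuotientGroup.mk'_surjective _⟩
  exact ⟨N, inferInstance, hN, F, inferInstance, inferInstance, by omega,
    Or.inl ⟨e.trans (MulEquiv.ofBijective _ hbij)⟩⟩

/-- Solvability of a direct product. -/
theorem sl_not_solvable {X : Type*} [Group X] (hns : ¬ Group.IsSolvable X) {F : Type} [Field F]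
    {A : Type} [CommGroup A] (e : X ≃* SLG 2 F × A) : ¬ Group.IsSolvable (SLG 2 F) := fun h =>
  hns (Group.isSolvable_of_isSolvable_injective (f := e.toMonoidHom) e.injective)

/-- `H` is elementary abelian. -/
theorem elementary_case {H A : Subgroup G} (D : DHyp H A) (hsq : ∀ x ∈ H, x * x = 1)
    (hns : ¬ Group.IsSolvable G) : Concl G := by
  classical
  haveI : Fact (Nat.Prime 2) := ⟨Nat.prime_two⟩
  have hcomm : ∀ a ∈ H, ∀ b ∈ H, a * b = b * a := by
    intro a ha b hb
    have h := hsq _ (mul_mem ha hb)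
    calc a * b = (a * b)⁻¹ := eq_inv_of_mul_eq_one_left h
      _ = b * a := by rw [mul_inv_rev, inv_eq_of_mul_eq_one_right (hsq a ha),
          inv_eq_of_mul_eq_one_right (hsq b hb)]
  have hcent : ∀ a ∈ H, a ≠ 1 → centralizer ({a} : Set G) = H := fun a ha ha1 =>
    D.cent a ha (orderOf_eq_prime (by rw [pow_two, hsq a ha]) ha1) fun b hb => hcomm b hb a ha
  have hcard : 4 ≤ Nat.card H := Nat.le_of_dvd Nat.card_pos D.four
  have hHp : IsPGroup 2 H := isPGroup_of_sq fun a => Subtype.ext (hsq a a.2)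
  obtain ⟨P, hP⟩ := hHp.exists_le_sylow
  obtain ⟨⟨h1, h1H⟩, hh1⟩ : ∃ h : H, h ≠ 1 :=
    haveI : Nontrivial H := Finite.one_lt_card_iff_nontrivial.1 (by omega)
    exists_ne 1
  have hh1' : h1 ≠ 1 := fun e => hh1 (Subtype.ext e)
  haveI : Nontrivial (P : Subgroup G) := ⟨⟨h1, hP h1H⟩, 1, fun e => hh1' (congrArg Subtype.val e)⟩
  obtain ⟨⟨w, hwP⟩, hwc, hw1⟩ : ∃ w : (P : Subgroup G), w ∈ Subgroup.center (P : Subgroup G) ∧ w ≠ 1 := by
    haveI := P.2.center_nontrivial
    obtain ⟨⟨w, hw⟩, hne⟩ := exists_ne (1 : Subgroup.center (P : Subgroup G))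
    exact ⟨w, hw, fun e => hne (Subtype.ext e)⟩
  have hwcomm : ∀ p ∈ (P : Subgroup G), p * w = w * p := fun p hp =>
    congrArg Subtype.val (Subgroup.mem_center_iff.1 hwc ⟨p, hp⟩)
  have hwH : w ∈ H := hcent h1 h1H hh1' ▸ mem_centralizer_singleton_iff.2 (hwcomm h1 (hP h1H)).symm
  have hPH : (P : Subgroup G) = H := le_antisymm (fun p hp =>
    hcent w hwH (fun e => hw1 (Subtype.ext e)) ▸ mem_centralizer_singleton_iff.2 (hwcomm p hp)) hP
  have hab : ∀ t : G, orderOf t = 2 → IsMulCommutative ↥(centralizer ({t} : Set G)) := by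
    intro t ht
    obtain ⟨g, hg⟩ := CfsgLib.Involutions.exists_conj_le_sylow
      (CfsgLib.Involutions.isPGroup_two_zpowers ht) P
    have htH : g * t * g⁻¹ ∈ H := hPH ▸ hg t (mem_zpowers t)
    have hc := hcent _ htH (fun e => CfsgLib.Involutions.ne_one_of_involution ht (conj_eq_one_iff.1 e))
    refine ⟨⟨fun a b => Subtype.ext ?_⟩⟩
    have key : ∀ c : centralizer ({t} : Set G), g * (c : G) * g⁻¹ ∈ H := fun c => by
      rw [← hc, centralizer_conj rfl]
      exact c.2
    have h := hcomm _ (key a) _ (key b)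
    have h' : g * ((a : G) * b) * g⁻¹ = g * ((b : G) * a) * g⁻¹ := by
      calc g * ((a : G) * b) * g⁻¹ = g * (a : G) * g⁻¹ * (g * b * g⁻¹) := by group
        _ = _ := by rw [h]; group
    exact mul_left_cancel (mul_right_cancel h')
  have heven : Even (Nat.card G) :=
    even_iff_two_dvd.2 ((dvd_trans (by norm_num) D.four).trans H.card_subgroup_dvd_card)
  rcases Cfsg.Agent.S2202.result heven hab with h | h | ⟨F, iF, iF', A', iA, iA', hchar, hodd, ⟨ψ⟩⟩
  · exact absurd (isSolvable_of_cyclic_sylow P (h P)) hns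
  · exact absurd (isSolvable_of_normal_sylow P (h P)) hns
  · haveI := hchar
    have h4 := four_le_card (sl_not_solvable hns ψ)
    set j := ψ.symm (uEl 1, 1) with hj
    have hj2 : orderOf j = 2 := by
      rw [hj, MulEquiv.orderOf_eq, Prod.orderOf, orderOf_one, Nat.lcm_one_right]
      exact orderOf_eq_prime (by rw [pow_two, uEl_sq]) (uEl_ne_one one_ne_zero)
    obtain ⟨g, hg⟩ := CfsgLib.Involutions.exists_conj_le_sylow
      (CfsgLib.Involutions.isPGroup_two_zpowers hj2) P
    have hjH : g * j * g⁻¹ ∈ H := hPH ▸ hg j (mem_zpowers j)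
    have hjc := hcent _ hjH fun e => CfsgLib.Involutions.ne_one_of_involution hj2 (conj_eq_one_iff.1 e)
    have htriv : ∀ a : A', a = 1 := by
      intro a
      have hcm : ψ.symm (1, a) ∈ centralizer ({j} : Set G) := by
        rw [mem_centralizer_singleton_iff, hj, ← map_mul, ← map_mul, Prod.mk_mul_mk, Prod.mk_mul_mk,
          one_mul, mul_one, one_mul, mul_one]
      rw [← centralizer_conj (g := g) rfl, hjc] at hcm
      have h2 : ψ.symm (1, a) * ψ.symm (1, a) = 1 := by
        have h' := hsq _ hcm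
        rw [show g * ψ.symm (1, a) * g⁻¹ * (g * ψ.symm (1, a) * g⁻¹) =
          g * (ψ.symm (1, a) * ψ.symm (1, a)) * g⁻¹ by group] at h'
        exact conj_eq_one_iff.1 h'
      rw [← map_mul, MulEquiv.map_eq_one_iff] at h2
      have h3 : orderOf a ∣ 2 := orderOf_dvd_of_pow_eq_one (by
        rw [pow_two]; exact congrArg Prod.snd h2)
      have h4' : Odd (orderOf a) := hodd.of_dvd_nat (orderOf_dvd_natCard a)
      rcases (Nat.dvd_prime Nat.prime_two).1 h3 with h5 | h5
      · exact orderOf_eq_one_iff.1 h5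
      · rw [h5] at h4'; exact absurd h4' (by decide)
    have hsub : Subsingleton A' := ⟨fun a b => (htriv a).trans (htriv b).symm⟩
    haveI : Unique A' := { default := 1, uniq := fun a => htriv a }
    exact concl_of_sl ⊥ (Or.inl (by rw [Subgroup.card_bot]; exact odd_one)) h4
      (QuotientGroup.quotientBot.trans (ψ.trans MulEquiv.prodUnique))

/-- At least two central involutions. -/
theorem rank_two_case {H A : Subgroup G} (D : DHyp H A) (hsq : ¬ ∀ x ∈ H, x * x = 1)
    {z1 z2 : G} (h1A : z1 ∈ A) (h2A : z2 ∈ A) (h1s : z1 * z1 = 1) (h2s : z2 * z2 = 1)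
    (h1n : z1 ≠ 1) (h2n : z2 ≠ 1) (hne : z1 ≠ z2) (hns : ¬ Group.IsSolvable G) : Concl G := by
  classical
  haveI : Fact (Nat.Prime 2) := ⟨Nat.prime_two⟩
  obtain ⟨x, hx, hxA⟩ := D.exists_out
  -- an element moving both involutions into `H` normalizes `H`
  have hnorm : ∀ g : G, g * z1 * g⁻¹ ∈ H → g * z2 * g⁻¹ ∈ H → g ∈ normalizer (H : Set G) := by
    intro g hg1 hg2
    obtain ⟨z', hzA, hzs, hzn, hgz⟩ : ∃ z' ∈ A, z' * z' = 1 ∧ z' ≠ 1 ∧ g * z' * g⁻¹ ∈ A := by
      by_cases ha : g * z1 * g⁻¹ ∈ A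
      · exact ⟨z1, h1A, h1s, h1n, ha⟩
      by_cases hb : g * z2 * g⁻¹ ∈ A
      · exact ⟨z2, h2A, h2s, h2n, hb⟩
      refine ⟨z1 * z2, mul_mem h1A h2A, ?_, ?_, ?_⟩
      · calc z1 * z2 * (z1 * z2) = z1 * (z2 * z1) * z2 := by group
          _ = z1 * z1 * (z2 * z2) := by rw [D.comm_A h2A h1A]; group
          _ = 1 := by rw [h1s, h2s, one_mul]
      · intro h
        exact hne ((eq_inv_of_mul_eq_one_left h).trans (inv_eq_of_mul_eq_one_right h2s))
      · rw [show g * (z1 * z2) * g⁻¹ = g * z1 * g⁻¹ * (g * z2 * g⁻¹) by group]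
        exact D.index_two hsq hg1 hg2 ha hb
    have hc := D.centralizer_eq hgz (by
      rw [show g * z' * g⁻¹ * (g * z' * g⁻¹) = g * (z' * z') * g⁻¹ by group, hzs]; group)
      (fun h => hzn (conj_eq_one_iff.1 h))
    rw [Subgroup.mem_normalizer_iff]
    intro w
    rw [← centralizer_conj (g := g) (D.centralizer_eq hzA hzs hzn), hc]
  have hnofuse : ∀ g y : G, y ∈ H → y ∉ A → g * y * g⁻¹ ∈ A → False := by
    intro g y hy hyA hgy
    have hy1 : y ≠ 1 := fun h => hyA (h ▸ one_mem A)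
    have hw2 : g * y * g⁻¹ * (g * y * g⁻¹) = 1 := by
      rw [show g * y * g⁻¹ * (g * y * g⁻¹) = g * (y * y) * g⁻¹ by group, D.out y hy hyA]; group
    have hc := D.centralizer_eq hgy hw2 (fun h => hy1 (conj_eq_one_iff.1 h))
    have hmem : ∀ z ∈ A, z * z = 1 → g * z * g⁻¹ ∈ H := fun z hz hzs => by
      rw [← hc, centralizer_conj rfl, mem_centralizer_singleton_iff]
      exact (D.central hz hzs hy).symm
    have hg := inv_mem (hnorm g (hmem z1 h1A h1s) (hmem z2 h2A h2s))
    have := D.mem_A_of_conj hsq hg hgy hw2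
    exact hyA (by rwa [show g⁻¹ * (g * y * g⁻¹) * g⁻¹⁻¹ = y by group] at this)
  -- a Sylow 2-subgroup of `G` inside `H`
  obtain ⟨S⟩ : Nonempty (Sylow 2 H) := inferInstance
  obtain ⟨T, hT⟩ := (S.2.map H.subtype).exists_le_sylow
  have hSH : ∀ g : H, IsPGroup 2 (zpowers g) → ∃ c : H, ((c * g * c⁻¹ : H) : G) ∈ T := fun g hg => by
    obtain ⟨c, hc⟩ := CfsgLib.Involutions.exists_conj_le_sylow hg S
    exact ⟨c, hT ⟨_, hc g (mem_zpowers g), rfl⟩⟩
  have hinv : ∀ y ∈ H, y * y = 1 → y ≠ 1 → ∃ c ∈ H, c * y * c⁻¹ ∈ T := fun y hy hy2 hy1 => by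
    obtain ⟨c, hc⟩ := hSH ⟨y, hy⟩ (CfsgLib.Involutions.isPGroup_two_zpowers
      (by rw [← Subgroup.orderOf_coe]; exact orderOf_eq_prime (by rw [pow_two, hy2]) hy1))
    exact ⟨c, c.2, hc⟩
  have hZT : ∀ z ∈ A, z * z = 1 → z ∈ T := fun z hz hz2 => by
    by_cases hz1 : z = 1
    · exact hz1 ▸ (T : Subgroup G).one_mem
    obtain ⟨c, hc, hcT⟩ := hinv z (D.lt.le hz) hz2 hz1
    rwa [D.central hz hz2 hc, mul_inv_cancel_right] at hcT
  have hTH : (T : Subgroup G) ≤ H := by
    by_contra hle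
    set S' := H.subgroupOf (T : Subgroup G) with hS'
    have hlt : S' < ⊤ := lt_top_iff_ne_top.2 fun h => hle (Subgroup.subgroupOf_eq_top.1 h)
    haveI := T.2.isNilpotent
    have hnc := normalizerCondition_of_isNilpotent (G := (T : Subgroup G)) S' hlt
    obtain ⟨r, hr, hrS⟩ := SetLike.exists_of_lt hnc
    set R : Subgroup (T : Subgroup G) := normalizer (S' : Set (T : Subgroup G)) with hR
    have hRmem : ∀ g ∈ R, (g : G) ∈ normalizer (H : Set G) := by
      intro g hg
      have hmem : ∀ z ∈ A, z * z = 1 → (g : G) * z * (g : G)⁻¹ ∈ H := fun z hz hz2 => by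
        have := (Subgroup.mem_normalizer_iff.1 hg ⟨z, hZT z hz hz2⟩).1
          (Subgroup.mem_subgroupOf.2 (D.lt.le hz))
        exact Subgroup.mem_subgroupOf.1 this
      exact hnorm g (hmem z1 h1A h1s) (hmem z2 h2A h2s)
    let Zs : Subgroup R :=
      { carrier := {g | ((g : (T : Subgroup G)) : G) ∈ A ∧ ((g : (T : Subgroup G)) : G) * ((g : (T : Subgroup G)) : G) = 1}
        one_mem' := ⟨one_mem A, one_mul 1⟩
        mul_mem' := fun {a b} ha hb => ⟨mul_mem ha.1 hb.1, by
          simp only [Subgroup.coe_mul]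
          calc ((a : (T : Subgroup G)) : G) * ((b : (T : Subgroup G)) : G) *
              (((a : (T : Subgroup G)) : G) * ((b : (T : Subgroup G)) : G))
              = ((a : (T : Subgroup G)) : G) * (((b : (T : Subgroup G)) : G) * ((a : (T : Subgroup G)) : G)) *
                  ((b : (T : Subgroup G)) : G) := by group
            _ = ((a : (T : Subgroup G)) : G) * ((a : (T : Subgroup G)) : G) *
                  (((b : (T : Subgroup G)) : G) * ((b : (T : Subgroup G)) : G)) := by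
                rw [D.comm_A hb.1 ha.1]; group
            _ = 1 := by rw [ha.2, hb.2, one_mul]⟩
        inv_mem' := fun {a} ha => ⟨inv_mem ha.1, by
          simp only [Subgroup.coe_inv]
          rw [← mul_inv_rev, ha.2, inv_one]⟩ }
    haveI : Zs.Normal := ⟨fun a ha g => by
      refine ⟨?_, ?_⟩
      · simp only [Subgroup.coe_mul, Subgroup.coe_inv]
        exact D.mem_A_of_conj hsq (hRmem g g.2) ha.1 ha.2
      · simp only [Subgroup.coe_mul, Subgroup.coe_inv]
        rw [show ∀ p q : G, p * q * p⁻¹ * (p * q * p⁻¹) = p * (q * q) * p⁻¹ from fun p q => by group,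
          ha.2]
        group⟩
    have hz1R : (⟨z1, hZT z1 h1A h1s⟩ : (T : Subgroup G)) ∈ R :=
      Subgroup.le_normalizer (Subgroup.mem_subgroupOf.2 (D.lt.le h1A))
    have hne' : Zs ≠ ⊥ := fun h => by
      have : (⟨⟨z1, hZT z1 h1A h1s⟩, hz1R⟩ : R) ∈ Zs := ⟨h1A, h1s⟩
      rw [h, mem_bot] at this
      exact h1n (congrArg (fun q : R => ((q : (T : Subgroup G)) : G)) this)
    obtain ⟨j, hj, hjc, hj1⟩ :=
      CfsgLib.GammaRankOne.exists_mem_center_of_ne_bot (T.2.to_subgroup R) Zs hne'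
    apply hrS
    rw [hS', Subgroup.mem_subgroupOf]
    have hc := D.centralizer_eq hj.1 hj.2 fun h => hj1 (Subtype.ext (Subtype.ext h))
    rw [← hc, mem_centralizer_singleton_iff]
    exact congrArg (fun q : R => ((q : (T : Subgroup G)) : G))
      (Subgroup.mem_center_iff.1 hjc ⟨r, hr⟩)
  -- the intersection of all subgroups of index two
  set G1 := sInf {K : Subgroup G | K.index = 2} with hG1
  have hG1n : G1.Normal := ⟨fun a ha g => Subgroup.mem_sInf.2 fun K hK =>
    (Subgroup.normal_of_index_eq_two hK).conj_mem a (Subgroup.mem_sInf.1 ha K hK) g⟩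
  have hG1sq : ∀ g : G, g * g ∈ G1 := fun g =>
    Subgroup.mem_sInf.2 fun K hK => Subgroup.mul_self_mem_of_index_two hK g
  have hns1 : ¬ Group.IsSolvable G1 := by
    intro h
    haveI := hG1n
    refine hns ((Group.isSolvable_iff_subgroup_quotient G1).2 ⟨h, isSolvable_of_sq fun q => ?_⟩)
    obtain ⟨g, rfl⟩ := QuotientGroup.mk_surjective q
    rw [← QuotientGroup.mk_mul, QuotientGroup.eq_one_iff]
    exact hG1sq g
  have hout : ∀ y ∈ T, y ∉ A → y ∉ G1 := by
    intro y hy hyA
    have hyH := hTH hy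
    have hi : A.relIndex (T : Subgroup G) = 2 := by
      refine Subgroup.index_eq_two_iff.2 ⟨⟨y, hy⟩, fun b => ?_⟩
      simp only [Subgroup.mem_subgroupOf, Subgroup.coe_mul]
      by_cases hb : (b : G) ∈ A
      · exact Or.inr ⟨hb, fun h => hyA ((A.mul_mem_cancel_left hb).1 h)⟩
      · exact Or.inl ⟨D.index_two hsq (hTH b.2) hyH hb hyA, hb⟩
    obtain ⟨K, -, hK, hyK⟩ := CfsgLib.Transfer.thompson_transfer T A hi y
      (by rw [pow_two]; exact D.out y hyH hyA) fun g _ h => hnofuse g y hyH hyA h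
    exact fun h => hyK (Subgroup.mem_sInf.1 h K hK)
  have hHG1 : ∀ y ∈ H, y ∈ G1 → y ∈ A := by
    intro y hy hy1
    by_contra hyA
    obtain ⟨c, hc, hcT⟩ := hinv y hy (D.out y hy hyA) fun h => hyA (h ▸ one_mem A)
    exact hout _ hcT (fun h => hnofuse c y hy hyA h) (hG1n.conj_mem y hy1 c)
  have hab : ∀ t : G1, orderOf t = 2 → IsMulCommutative ↥(centralizer ({t} : Set G1)) := by
    intro t ht
    rw [← Subgroup.orderOf_coe] at ht
    obtain ⟨g, hg⟩ := CfsgLib.Involutions.exists_conj_le_sylow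
      (CfsgLib.Involutions.isPGroup_two_zpowers ht) T
    have hw := hg _ (mem_zpowers (t : G))
    have hwA : g * (t : G) * g⁻¹ ∈ A := hHG1 _ (hTH hw) (hG1n.conj_mem _ t.2 g)
    have hc := D.centralizer_eq hwA (by
      rw [show g * (t : G) * g⁻¹ * (g * (t : G) * g⁻¹) = g * ((t : G) * t) * g⁻¹ by group,
        CfsgLib.Involutions.mul_self_eq_one ht]; group)
      fun h => CfsgLib.Involutions.ne_one_of_involution ht (conj_eq_one_iff.1 h)
    have key : ∀ a : centralizer ({t} : Set G1), g * ((a : G1) : G) * g⁻¹ ∈ A := fun a => by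
      refine hHG1 _ ?_ (hG1n.conj_mem _ (a : G1).2 g)
      rw [← hc, centralizer_conj rfl, mem_centralizer_singleton_iff]
      exact congrArg Subtype.val (mem_centralizer_singleton_iff.1 a.2)
    refine ⟨⟨fun a b => Subtype.ext (Subtype.ext ?_)⟩⟩
    have h := D.comm_A (key a) (key b)
    have h' : g * (((a : G1) : G) * (b : G1)) * g⁻¹ = g * (((b : G1) : G) * (a : G1)) * g⁻¹ := by
      calc g * (((a : G1) : G) * (b : G1)) * g⁻¹
          = g * ((a : G1) : G) * g⁻¹ * (g * (b : G1) * g⁻¹) := by group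
        _ = _ := by rw [h]; group
    exact mul_left_cancel (mul_right_cancel h')
  have heven : Even (Nat.card G1) := by
    rw [← Nat.not_odd_iff_even]
    exact fun h => hns1 (CfsgLib.PF.oddSolvable G1 h)
  rcases Cfsg.Agent.S2202.result heven hab with h | h | ⟨F, iF, iF', A', iA, iA', hchar, -, ⟨ψ⟩⟩
  · exact absurd (isSolvable_of_cyclic_sylow default (h default)) hns1
  · exact absurd (isSolvable_of_normal_sylow default (h default)) hns1
  haveI := hchar
  have hnsl := sl_not_solvable hns1 ψ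
  have h4 := four_le_card hnsl
  set φ₀ : SLG 2 F →* G := G1.subtype.comp (ψ.symm.toMonoidHom.comp (MonoidHom.inl _ A')) with hφ₀
  have hinj₀ : Function.Injective φ₀ :=
    G1.subtype_injective.comp (ψ.symm.injective.comp fun a b h => congrArg Prod.fst h)
  have hmem₀ : ∀ s, φ₀ s ∈ G1 := fun s => (ψ.symm (s, 1)).2
  -- move the unitriangular group into the central involutions of `H`
  obtain ⟨g0, hg0⟩ := CfsgLib.Involutions.exists_conj_le_sylow
    (T := (φ₀.comp (uHom (F := F))).range) (isPGroup_of_sq fun ⟨w, a, ha⟩ => Subtype.ext (by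
      show w * w = 1
      rw [← ha, ← map_mul, show a * a = 1 from
        Multiplicative.toAdd.injective (CharTwo.add_self_eq_zero (R := F) _), map_one])) T
  set φ : SLG 2 F →* G := (MulAut.conj g0).toMonoidHom.comp φ₀ with hφ
  have hinj : Function.Injective φ := (MulAut.conj g0).injective.comp hinj₀
  have hmem : ∀ s, φ s ∈ G1 := fun s => hG1n.conj_mem _ (hmem₀ s) g0
  have hU : ∀ a, φ (uEl a) ∈ A ∧ φ (uEl a) * φ (uEl a) = 1 := by
    intro a
    refine ⟨hHG1 _ (hTH ?_) (hmem _), by rw [← map_mul, uEl_sq, map_one]⟩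
    exact hg0 _ ⟨Multiplicative.ofAdd a, rfl⟩
  set L := φ.range with hL
  have hLn : L.Normal := by
    haveI := hG1n
    have hrange : φ₀.range = (commutator G1).map G1.subtype := by
      have hperf : commutator (SLG 2 F) = ⊤ := CfsgLib.Laws.sl_two_perfect (by omega)
      have hA' : commutator A' = ⊥ := by
        rw [_root_.commutator_def, Subgroup.commutator_eq_bot_iff_le_centralizer]
        exact fun a _ => Subgroup.mem_centralizer_iff.2 fun b _ => mul_comm _ _
      have hc : commutator (SLG 2 F × A') = (MonoidHom.inl (SLG 2 F) A').range := by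
        rw [_root_.commutator_def, ← Subgroup.top_prod_top, Subgroup.commutator_prod_prod, ← _root_.commutator_def,
          ← _root_.commutator_def, hperf, hA']
        ext ⟨s, a⟩
        simp [eq_comm, Subgroup.mem_prod]
      have : commutator G1 = (commutator (SLG 2 F × A')).map ψ.symm.toMonoidHom := by
        rw [_root_.commutator_def, _root_.commutator_def, Subgroup.map_commutator,
          Subgroup.map_top_of_surjective _ ψ.symm.surjective]
      rw [this, hc, hφ₀, MonoidHom.range_comp, MonoidHom.range_comp]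
    have h0 : φ₀.range.Normal := by rw [hrange]; infer_instance
    refine ⟨fun w hw g => ?_⟩
    obtain ⟨s, rfl⟩ := hw
    obtain ⟨s', hs'⟩ := h0.conj_mem _ ⟨s, rfl⟩ (g0⁻¹ * g * g0)
    refine ⟨s', ?_⟩
    show g0 * φ₀ s' * g0⁻¹ = g * (g0 * φ₀ s * g0⁻¹) * g⁻¹
    rw [hs']
    group
  haveI := hLn
  set j := φ (uEl 1) with hjdef
  have hjC : centralizer ({j} : Set G) = H := D.centralizer_eq (hU 1).1 (hU 1).2
    fun h => uEl_ne_one one_ne_zero (hinj (h.trans (map_one φ).symm))
  have hGLH : ∀ g : G, ∃ k : SLG 2 F, φ k * g ∈ H := by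
    intro g
    obtain ⟨s, hs⟩ := hLn.conj_mem j ⟨_, rfl⟩ g
    have hj2 : j * j = 1 := (hU 1).2
    obtain ⟨k, hk⟩ := involution_conj (s := s)
      (hinj (by
        rw [map_mul, map_one, hs, show g * j * g⁻¹ * (g * j * g⁻¹) = g * (j * j) * g⁻¹ by group, hj2]
        group))
      (fun h => by
        rw [h, map_one] at hs
        exact uEl_ne_one one_ne_zero (hinj ((conj_eq_one_iff.1 hs.symm).trans (map_one φ).symm)))
    refine ⟨k, ?_⟩
    rw [← hjC, mem_centralizer_singleton_iff]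
    have h' := congrArg φ hk
    rw [map_mul, map_mul, map_inv, hs, ← hjdef] at h'
    calc φ k * g * j = φ k * (g * j * g⁻¹) * (φ k)⁻¹ * (φ k * g) := by group
      _ = j * (φ k * g) := by rw [h']
  set Cc := centralizer (L : Set G) with hCc
  haveI hCn : Cc.Normal := by rw [hCc]; infer_instance
  have hHC : ∀ h ∈ H, ∃ b, (φ (uEl b))⁻¹ * h ∈ Cc := by
    intro h hh
    let eL : SLG 2 F ≃* L := MonoidHom.ofInjective hinj
    let β : MulAut (SLG 2 F) := (eL.trans ((MulAut.conjNormal h).trans eL.symm))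
    have hβ : ∀ s, φ (β s) = h * φ s * h⁻¹ := fun s => by
      have h' : eL (β s) = MulAut.conjNormal h (eL s) := eL.apply_symm_apply _
      have h'' := congrArg Subtype.val h'
      rwa [MulAut.conjNormal_apply] at h''
    obtain ⟨b, hb⟩ := exists_uEl_of_fix β fun a => hinj (by
      rw [hβ, D.central (hU a).1 (hU a).2 hh, mul_inv_cancel_right])
    refine ⟨b, mem_centralizer_iff.2 ?_⟩
    rintro _ ⟨s, rfl⟩
    have h' := hβ s
    rw [hb, map_mul, map_mul, map_inv] at h'
    calc φ s * ((φ (uEl b))⁻¹ * h)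
        = (φ (uEl b))⁻¹ * (φ (uEl b) * φ s * (φ (uEl b))⁻¹) * h := by group
      _ = (φ (uEl b))⁻¹ * h * φ s := by rw [h']; group
  have hsplit : ∀ g : G, ∃ s, ∃ c ∈ Cc, φ s * c = g := by
    intro g
    obtain ⟨k, hk⟩ := hGLH g
    obtain ⟨b, hb⟩ := hHC _ hk
    exact ⟨k⁻¹ * uEl b, _, hb, by rw [map_mul, map_inv]; group⟩
  have hbij : Function.Bijective ((QuotientGroup.mk' Cc).comp φ) := by
    refine ⟨(injective_iff_map_eq_one _).2 fun s hs => ?_, fun q => ?_⟩
    · have hsc : φ s ∈ Cc := (QuotientGroup.eq_one_iff _).1 hs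
      have : s ∈ Subgroup.center (SLG 2 F) := Subgroup.mem_center_iff.2 fun t => hinj (by
        rw [map_mul, map_mul]; exact mem_centralizer_iff.1 hsc _ ⟨t, rfl⟩)
      rwa [CfsgLib.StrongEmbedding.PSLTwo.center_sl_two_eq_bot, mem_bot] at this
    · obtain ⟨g, rfl⟩ := QuotientGroup.mk_surjective q
      obtain ⟨s, c, hc, rfl⟩ := hsplit g
      refine ⟨s, ?_⟩
      show QuotientGroup.mk (φ s) = QuotientGroup.mk (φ s * c)
      rw [QuotientGroup.eq, inv_mul_cancel_left]
      exact hc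
  have hCH : Cc ≤ H := fun c hc => by
    rw [← hjC, mem_centralizer_singleton_iff]
    exact (mem_centralizer_iff.1 hc j ⟨_, rfl⟩).symm
  have hodd : Odd (Nat.card (A ⊓ Cc : Subgroup G)) := by
    rw [← Nat.not_even_iff_odd]
    intro hev
    obtain ⟨i, hi⟩ := exists_prime_orderOf_dvd_card' (G := (A ⊓ Cc : Subgroup G)) 2 hev.two_dvd
    rw [← Subgroup.orderOf_coe] at hi
    have hic := D.centralizer_eq i.2.1 (CfsgLib.Involutions.mul_self_eq_one hi)
      (CfsgLib.Involutions.ne_one_of_involution hi)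
    have hLA : ∀ s, φ s ∈ A := fun s => hHG1 _ (by
      rw [← hic, mem_centralizer_singleton_iff]
      exact mem_centralizer_iff.1 i.2.2 _ ⟨s, rfl⟩) (hmem s)
    letI : CommGroup (SLG 2 F) :=
      { (inferInstance : Group (SLG 2 F)) with
        mul_comm := fun a b => hinj (by rw [map_mul, map_mul]; exact D.comm_A (hLA a) (hLA b)) }
    exact hnsl inferInstance
  have hN : Odd (Nat.card Cc) ∨ ∃ m : ℕ, Odd m ∧ Nat.card Cc = 2 * m := by
    by_cases hCA : Cc ≤ A
    · left
      rwa [inf_eq_right.2 hCA] at hodd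
    · right
      refine ⟨_, hodd, ?_⟩
      obtain ⟨y, hy, hyA⟩ := SetLike.not_le_iff_exists.1 hCA
      have hidx : ((A ⊓ Cc).subgroupOf Cc).index = 2 := by
        refine Subgroup.index_eq_two_iff.2 ⟨⟨y, hy⟩, fun b => ?_⟩
        simp only [Subgroup.mem_subgroupOf, Subgroup.coe_mul]
        by_cases hb : (b : G) ∈ A
        · exact Or.inr ⟨⟨hb, b.2⟩, fun h => hyA ((A.mul_mem_cancel_left hb).1 h.1)⟩
        · exact Or.inl ⟨⟨D.index_two hsq (hCH b.2) (hCH hy) hb hyA, mul_mem b.2 hy⟩, fun h => hb h.1⟩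
      have h' := ((A ⊓ Cc).subgroupOf Cc).card_mul_index
      rw [hidx, Nat.card_congr (Subgroup.subgroupOfEquivOfLe inf_le_right).toEquiv] at h'
      rw [← h', mul_comm]
  exact concl_of_sl Cc hN h4 (MulEquiv.ofBijective _ hbij).symm

end CfsgLib.DGroup
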