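import Mathlib
import Cfsg.Agent.Lib.DGroup.RankTwo
import Cfsg.Agent.Lib.DGroup.Core
import Cfsg.Agent.Lib.Components.Local
import Cfsg.Agent.Lib.TwoGroups85.MaxClass
import Cfsg.Agent.Lib.PGroup.MaximalClass
import Cfsg.Agent.Lib.TwoGroups.Semidihedral
import Cfsg.Agent.Lib.TwoGroups.Dihedral
import Cfsg.Agent.Lib.TwoGroups.OneInvolution
import Cfsg.Agent.Lib.InvChar.SolvableTwo

/-!
D-group centralizers with a single central involution.
-/

set_option autoImplicit false

namespace CfsgLib.DGroup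

open Subgroup
open CfsgLib.GWCons.RankOneCover (DihedralClassification)

universe u

variable {G : Type u} [Group G] [Finite G] {H A : Subgroup G}

omit [Finite G] in
theorem not_solvable_quotient (N : Subgroup G) [N.Normal] (hN : Group.IsSolvable N)
    (hns : ¬ Group.IsSolvable G) : ¬ Group.IsSolvable (G ⧸ N) := fun h =>
  hns ((Group.isSolvable_iff_subgroup_quotient N).2 ⟨hN, h⟩)

theorem odd_card_oddCore : Odd (Nat.card (Cfsg.oddCore G)) := by
  haveI : Fact (Nat.Prime 2) := ⟨Nat.prime_two⟩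
  rw [← Nat.not_even_iff_odd, even_iff_two_dvd]
  exact CfsgLib.PCore.not_dvd_card_pPrimeCore

theorem le_oddCore {N : Subgroup G} (hN : N.Normal) (h : Odd (Nat.card N)) :
    N ≤ Cfsg.oddCore G := by
  haveI : Fact (Nat.Prime 2) := ⟨Nat.prime_two⟩
  exact CfsgLib.PCore.le_pPrimeCore_of_not_dvd hN
    (by rwa [← even_iff_two_dvd, Nat.not_even_iff_odd])

/-- Elements of odd order in a 2-subgroup are trivial. -/
theorem eq_one_of_mem_oddCore {P : Subgroup G} (hP : IsPGroup 2 P) {p : G} (hp : p ∈ P)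
    (hpO : p ∈ Cfsg.oddCore G) : p = 1 := by
  haveI : Fact (Nat.Prime 2) := ⟨Nat.prime_two⟩
  have hb := CfsgLib.PCore.inf_eq_bot_of_isPGroup_coprime (p := 2) hP
    (CfsgLib.PCore.pPrimeCore_coprime (G := G))
  have h : p ∈ P ⊓ Cfsg.oddCore G := ⟨hp, hpO⟩
  rwa [hb, mem_bot] at h

theorem core_quotient (N : Subgroup (G ⧸ Cfsg.oddCore G)) (hN : N.Normal)
    (h : Odd (Nat.card N)) : N = ⊥ :=
  eq_bot_iff.2 (CfsgLib.InvChar.oddCore_quotient_oddCore (G := G) ▸ le_oddCore hN h)

/-- The centralizer of the image of an involution modulo the odd core. -/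
theorem centralizer_mk (D : DHyp H A) {z : G} (hz : z ∈ A) (hz2 : z * z = 1) (hz1 : z ≠ 1)
    (q : G ⧸ Cfsg.oddCore G)
    (hq : q * QuotientGroup.mk z = QuotientGroup.mk z * q) :
    ∃ h ∈ H, QuotientGroup.mk h = q := by
  haveI : Fact (Nat.Prime 2) := ⟨Nat.prime_two⟩
  have hm := CfsgLib.Components.map_centralizer_quotient (p := 2)
    (CfsgLib.PCore.pPrimeCore_coprime (G := G)) (P := zpowers z)
    (CfsgLib.Involutions.isPGroup_two_zpowers (orderOf_of_sq hz2 hz1))
  have hq' : q ∈ centralizer (((zpowers z).map (QuotientGroup.mk' (Cfsg.oddCore G)) :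
      Subgroup (G ⧸ Cfsg.oddCore G)) : Set (G ⧸ Cfsg.oddCore G)) := by
    rw [mem_centralizer_iff]
    rintro _ ⟨_, ⟨k, rfl⟩, rfl⟩
    show QuotientGroup.mk' _ (z ^ k) * q = q * QuotientGroup.mk' _ (z ^ k)
    rw [map_zpow]
    exact ((show Commute q (QuotientGroup.mk z) from hq).zpow_right k).eq.symm
  rw [← hm] at hq'
  obtain ⟨h, hh, hhq⟩ := hq'
  refine ⟨h, ?_, hhq⟩
  rw [← D.centralizer_eq hz hz2 hz1, mem_centralizer_singleton_iff]
  exact (mem_centralizer_iff.1 hh z (mem_zpowers z)).symm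

/-- Square-one images of elements of `A`. -/
theorem mk_cases {z a : G} (huniq : ∀ b ∈ A, b * b = 1 → b = 1 ∨ b = z) (ha : a ∈ A)
    (h : (QuotientGroup.mk a : G ⧸ Cfsg.oddCore G) * QuotientGroup.mk a = 1) :
    (QuotientGroup.mk a : G ⧸ Cfsg.oddCore G) = 1 ∨
      (QuotientGroup.mk a : G ⧸ Cfsg.oddCore G) = QuotientGroup.mk z := by
  obtain ⟨k, hk⟩ := odd_card_oddCore (G := G)
  have hao : a * a ∈ Cfsg.oddCore G := (QuotientGroup.eq_one_iff _).1 h
  set d := Nat.card (Cfsg.oddCore G) with hd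
  have h1 : (a * a) ^ d = 1 :=
    congrArg Subtype.val (pow_card_eq_one' (x := (⟨a * a, hao⟩ : Cfsg.oddCore G)))
  have h2 : a ^ d * a ^ d = 1 := by
    rw [← (Commute.refl a).mul_pow, h1]
  have h3 : (QuotientGroup.mk a : G ⧸ Cfsg.oddCore G) = QuotientGroup.mk (a ^ d) := by
    rw [QuotientGroup.mk_pow, hk, pow_succ, pow_mul, pow_two, h, one_pow, one_mul]
  rcases huniq _ (pow_mem ha _) h2 with e | e
  · exact Or.inl (by rw [h3, e]; rfl)
  · exact Or.inr (by rw [h3, e])

/-- Dihedral Sylow 2-subgroups. -/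
theorem dihedral_case (hGW : DihedralClassification.{u}) (hns : ¬ Group.IsSolvable G)
    (D : DHyp H A) {z : G} (hz : z ∈ A) (hz2 : z * z = 1) (hz1 : z ≠ 1)
    (huniq : ∀ b ∈ A, b * b = 1 → b = 1 ∨ b = z) (T : Sylow 2 G) {C : Subgroup G}
    (DT : DihData (T : Subgroup G) C) (hzT : z ∈ T) : Concl G := by
  haveI : Fact (Nat.Prime 2) := ⟨Nat.prime_two⟩
  set π := QuotientGroup.mk' (Cfsg.oddCore G) with hπ
  set P := T.mapSurjective (QuotientGroup.mk'_surjective (Cfsg.oddCore G)) with hP
  have hPmap : (P : Subgroup (G ⧸ Cfsg.oddCore G)) = (T : Subgroup G).map π :=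
    Sylow.coe_mapSurjective _ _
  have DP : DihData (P : Subgroup (G ⧸ Cfsg.oddCore G)) (C.map π) := by
    rw [hPmap]
    exact DT.map π fun p hp h => eq_one_of_mem_oddCore T.2 hp ((QuotientGroup.eq_one_iff p).1 h)
  have hns' : ¬ Group.IsSolvable (G ⧸ Cfsg.oddCore G) :=
    not_solvable_quotient _ (CfsgLib.PF.oddSolvable _ odd_card_oddCore) hns
  have hzP : π z ∈ P := by
    show π z ∈ (P : Subgroup (G ⧸ Cfsg.oddCore G))
    rw [hPmap]; exact mem_map_of_mem π hzT
  have hzo : orderOf (π z) = 2 :=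
    orderOf_of_sq (by rw [← map_mul, hz2, map_one]) fun h =>
      hz1 (eq_one_of_mem_oddCore T.2 hzT ((QuotientGroup.eq_one_iff z).1 h))
  have hout : ∀ c, c * π z = π z * c → c ∉ A.map π → c * c = 1 := by
    intro c hc hcA
    obtain ⟨h, hh, rfl⟩ := centralizer_mk D hz hz2 hz1 c hc
    rw [← QuotientGroup.mk_mul, D.out h hh fun h' => hcA (mem_map_of_mem π h')]
    rfl
  have hB : ∀ b ∈ A.map π, b * b = 1 → b = 1 ∨ b = π z := by
    rintro _ ⟨a, ha, rfl⟩ h
    exact mk_cases huniq ha h
  obtain ⟨F, iF, iF', -, h3, h, -⟩ :=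
    psl_or_pgl hGW hns' core_quotient P DP hzP hzo (A.map π) hout hB
  exact ⟨Cfsg.oddCore G, inferInstance, Or.inl odd_card_oddCore, F, iF, iF', h3, h⟩

/-- In a group with trivial odd core, a quotient by a central subgroup of order two is core-free. -/
theorem core_quotient_central {w : G} (hw : w ∈ Subgroup.center G) (hw2 : orderOf w = 2)
    [(zpowers w).Normal] (hO : ∀ N : Subgroup G, N.Normal → Odd (Nat.card N) → N = ⊥)
    (N : Subgroup (G ⧸ zpowers w)) (hN : N.Normal) (hodd : Odd (Nat.card N)) : N = ⊥ := by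
  haveI : Fact (Nat.Prime 2) := ⟨Nat.prime_two⟩
  set K := N.comap (QuotientGroup.mk' (zpowers w)) with hK
  haveI : K.Normal := hN.comap _
  have hKcard : Nat.card K = 2 * Nat.card N := by
    rw [hK, CfsgLib.PCore.card_comap_mk', Nat.card_zpowers, hw2]
  have hWK : zpowers w ≤ K := fun v hv => by
    rw [hK, mem_comap, QuotientGroup.mk'_apply, (QuotientGroup.eq_one_iff v).2 hv]
    exact one_mem N
  have hp : IsPGroup 2 ((zpowers w).subgroupOf K) :=
    (CfsgLib.Involutions.isPGroup_two_zpowers hw2).of_equiv (Subgroup.subgroupOfEquivOfLe hWK).symm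
  have hidx : ¬ 2 ∣ ((zpowers w).subgroupOf K).index := by
    have h := ((zpowers w).subgroupOf K).card_mul_index
    rw [Nat.card_congr (Subgroup.subgroupOfEquivOfLe hWK).toEquiv, Nat.card_zpowers, hw2, hKcard] at h
    rw [show ((zpowers w).subgroupOf K).index = Nat.card N by omega, ← even_iff_two_dvd,
      Nat.not_even_iff_odd]
    exact hodd
  set Q := hp.toSylow hidx with hQ
  have hnc : ¬ 2 ∣ Nat.card (Cfsg.pResidual 2 K) := CfsgLib.Transfer.hasNormalPComplement_iff.mp
    (CfsgLib.Transfer.hasNormalPComplement_of_normalizer_le Q fun g _ => by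
      rw [mem_centralizer_iff]
      intro q hq
      apply Subtype.ext
      obtain ⟨k, hk⟩ := Subgroup.mem_subgroupOf.1 hq
      exact (Subgroup.mem_center_iff.1 (hk ▸ zpow_mem hw k : (q : G) ∈ Subgroup.center G) (g : G)).symm)
  haveI : (Cfsg.pResidual 2 K).Characteristic := CfsgLib.Transfer.pResidual_characteristic
  have h1 := hO ((Cfsg.pResidual 2 K).map K.subtype) inferInstance
    (by rwa [Subgroup.card_subtype, ← Nat.not_even_iff_odd, even_iff_two_dvd])
  rw [Subgroup.map_eq_bot_iff_of_injective _ K.subtype_injective] at h1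
  haveI : (Cfsg.pResidual 2 K).Normal := CfsgLib.Transfer.pResidual_normal
  have hKp : IsPGroup 2 K :=
    (CfsgLib.Transfer.isPGroup_quotient_of_pResidual_le (p := 2) _ le_rfl).of_equiv
      ((QuotientGroup.quotientMulEquivOfEq h1).trans QuotientGroup.quotientBot)
  have hNp : IsPGroup 2 N := by
    have h2 := hKp.map (QuotientGroup.mk' (zpowers w))
    rwa [hK, Subgroup.map_comap_eq_self_of_surjective (QuotientGroup.mk'_surjective _)] at h2
  obtain ⟨k, hk⟩ := hNp.exists_card_eq
  refine Subgroup.eq_bot_of_card_eq _ ?_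
  rcases k with _ | k
  · rw [hk, pow_zero]
  · exact absurd hodd (Nat.not_odd_iff_even.2 (hk ▸ even_iff_two_dvd.2 (dvd_pow_self 2 k.succ_ne_zero)))

/-- A generalized quaternion group has a single involution. -/
theorem quaternion_involution {m : ℕ} [NeZero m] {p q : QuaternionGroup m} (hp : p * p = 1)
    (hp1 : p ≠ 1) (hq : q * q = 1) (hq1 : q ≠ 1) : p = q := by
  have hm : (2 * m : ℕ) ≠ 0 := by have := NeZero.ne m; omega
  haveI : NeZero (2 * m) := ⟨hm⟩
  have key : ∀ g : QuaternionGroup m, g * g = 1 → g ≠ 1 →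
      ∃ i : ZMod (2 * m), i + i = 0 ∧ i ≠ 0 ∧ g = QuaternionGroup.a i := by
    intro g hg hg1
    rcases g with i | i
    · rw [QuaternionGroup.a_mul_a, QuaternionGroup.one_def] at hg
      exact ⟨i, QuaternionGroup.a.inj hg, fun h => hg1 (by rw [h]; rfl), rfl⟩
    · rw [QuaternionGroup.xa_mul_xa, QuaternionGroup.one_def] at hg
      have := QuaternionGroup.a.inj hg
      simp at this
      have h2 := (ZMod.natCast_eq_zero_iff _ _).1 this
      exact absurd (Nat.le_of_dvd (Nat.pos_of_ne_zero (NeZero.ne m)) h2) (by have := NeZero.ne m; omega)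
  obtain ⟨i, hi, hi0, rfl⟩ := key p hp hp1
  obtain ⟨j, hj, hj0, rfl⟩ := key q hq hq1
  congr 1
  by_contra hij
  have hcard := CfsgLib.TwoGroups.Dihedral.card_two_torsion_le (2 * m)
  have : Function.Injective (![⟨0, add_zero 0⟩, ⟨i, hi⟩, ⟨j, hj⟩] :
      Fin 3 → {a : ZMod (2 * m) // a + a = 0}) := by
    intro a b h
    fin_cases a <;> fin_cases b <;> simp at h ⊢ <;>
      first | exact hi0 h | exact hi0 h.symm | exact hj0 h | exact hj0 h.symm | exact hij h |
        exact hij h.symm
  have := Nat.card_le_card_of_injective _ this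
  rw [Nat.card_fin] at this
  omega

open CfsgLib.TwoGroups in
/-- Semidihedral Sylow 2-subgroups are impossible. -/
theorem semidihedral_case (hGW : DihedralClassification.{u}) (hns : ¬ Group.IsSolvable G)
    (D : DHyp H A) {z : G} (hz : z ∈ A) (hz2 : z * z = 1) (hz1 : z ≠ 1)
    (huniq : ∀ b ∈ A, b * b = 1 → b = 1 ∨ b = z)
    (hsq : ¬ ∀ x ∈ H, x * x = 1)
    (h8 : ¬ 8 ∣ Nat.card H) (T : Sylow 2 G) (hzT : z ∈ T) {r : ℕ} {x y : (T : Subgroup G)}
    (S : SD.SD (T : Subgroup G) r x y) : False := by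
  haveI : Fact (Nat.Prime 2) := ⟨Nat.prime_two⟩
  have hr := SD.r_pos S
  set w : (T : Subgroup G) := x ^ (4 * r : ℤ) with hw
  have hwo : orderOf w = 2 := (SD.orderOf_zpow_eq_two S).2 rfl
  have hwo' : orderOf (w : G) = 2 := by rw [Subgroup.orderOf_coe, hwo]
  have hwT : ∀ t : (T : Subgroup G), t * w = w * t := by
    intro t
    have : w ∈ Subgroup.center (T : Subgroup G) := by
      rw [SD.center_eq S]; exact mem_zpowers _
    exact Subgroup.mem_center_iff.1 this t
  have hTcard : 8 ∣ Nat.card (T : Subgroup G) := by rw [S.card]; exact ⟨2 * r, by ring⟩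
  have hzH := D.centralizer_eq hz hz2 hz1
  -- `z` is not central in `T`, nor conjugate to `w`
  have hfuse : ∀ g : G, g * z * g⁻¹ ≠ (w : G) := by
    intro g hg
    apply h8
    have hle : (T : Subgroup G).map (MulAut.conj g⁻¹).toMonoidHom ≤ H := by
      rintro _ ⟨t, ht, rfl⟩
      rw [← centralizer_conj (g := g) hzH]
      show g * (g⁻¹ * t * g⁻¹⁻¹) * g⁻¹ ∈ _
      rw [mem_centralizer_singleton_iff, hg, show g * (g⁻¹ * t * g⁻¹⁻¹) * g⁻¹ = t by group]
      exact congrArg Subtype.val (hwT ⟨t, ht⟩)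
    refine hTcard.trans ?_
    rw [← Subgroup.card_map_of_injective (f := (MulAut.conj g⁻¹).toMonoidHom) (MulAut.conj g⁻¹).injective]
    exact Subgroup.card_dvd_of_le hle
  set z' : (T : Subgroup G) := ⟨z, hzT⟩ with hz'
  have hz'o : orderOf z' = 2 := by rw [← Subgroup.orderOf_coe]; exact orderOf_of_sq hz2 hz1
  obtain ⟨a, ha, hza⟩ : ∃ a : ℤ, Even a ∧ z' = x ^ a * y := by
    rcases SD.involution_cases S hz'o with h | h
    · exact absurd (show (1 : G) * z * (1 : G)⁻¹ = (w : G) by
        rw [one_mul, inv_one, mul_one]; exact congrArg Subtype.val h) (hfuse 1)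
    · exact h
  set Q := SD.quat x y with hQ
  have hQi : Q.index = 2 := SD.index_quat S
  have hQinv : ∀ q : (T : Subgroup G), q ∈ Q → orderOf q = 2 → q = w := by
    intro q hq hq2
    rcases SD.involution_cases S hq2 with h | ⟨b, hb, h⟩
    · exact h
    · exfalso
      have hxy : x ^ (1 : ℤ) * y ∈ Q := subset_closure (by simp)
      obtain ⟨c, rfl⟩ := hb
      have hxb : x ^ (c + c) ∈ Q := by
        rw [zpow_add]; exact Subgroup.mul_self_mem_of_index_two hQi _
      rw [h] at hq
      have hy : y ∈ Q := (Q.mul_mem_cancel_left hxb).1 hq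
      have hx : x ∈ Q := by simpa using (Q.mul_mem_cancel_right hy).1 hxy
      have htop : Q = ⊤ := by
        rw [Subgroup.eq_top_iff']
        intro g
        obtain ⟨k, rfl | rfl⟩ := S.gen g
        · exact zpow_mem hx k
        · exact mul_mem (zpow_mem hx k) hy
      rw [htop, Subgroup.index_top] at hQi
      omega
  obtain ⟨K, hKn, hK, hzK⟩ := CfsgLib.Transfer.thompson_transfer T (Q.map (T : Subgroup G).subtype)
    (by
      show ((Q.map (T : Subgroup G).subtype).subgroupOf (T : Subgroup G)).index = 2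
      rw [Subgroup.subgroupOf, Subgroup.comap_map_eq_self_of_injective (T : Subgroup G).subtype_injective,
        hQi])
    z (by rw [pow_two, hz2]) (by
      rintro g - ⟨q, hq, hqe⟩
      refine hfuse g ?_
      rw [← hqe]
      refine congrArg Subtype.val (hQinv q hq ?_)
      rw [← Subgroup.orderOf_coe, show (q : G) = g * z * g⁻¹ from hqe,
        CfsgLib.Involutions.orderOf_conj_eq]
      exact orderOf_of_sq hz2 hz1)
  haveI := hKn
  have hKsq : ∀ g : G, g * g ∈ K := Subgroup.mul_self_mem_of_index_two hK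
  have hKx : ∀ k : ℤ, Even k → ((x ^ k : (T : Subgroup G)) : G) ∈ K := by
    rintro k ⟨c, rfl⟩
    rw [zpow_add, Subgroup.coe_mul]
    exact hKsq _
  have hwK : (w : G) ∈ K := hKx _ ⟨2 * r, by ring⟩
  have hKinv : ∀ q : (T : Subgroup G), (q : G) ∈ K → orderOf q = 2 → q = w := by
    intro q hq hq2
    rcases SD.involution_cases S hq2 with h | ⟨b, hb, h⟩
    · exact h
    · exfalso
      refine hzK ?_
      have e : z' = x ^ (a - b) * q := by
        rw [h, ← mul_assoc, ← zpow_add, sub_add_cancel, hza]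
      have e' : z = ((x ^ (a - b) : (T : Subgroup G)) : G) * (q : G) := congrArg Subtype.val e
      rw [e']
      exact mul_mem (hKx _ (ha.sub hb)) hq
  have huniqK : ∀ s t : K, orderOf s = 2 → orderOf t = 2 → Commute s t → s = t := by
    intro s t hs ht hc
    rw [← Subgroup.orderOf_coe] at hs ht
    have hp : IsPGroup 2 (closure ({(s : G), (t : G)} : Set G)) := closure_isPGroup
      (by
        rintro p (rfl | rfl) q (rfl | rfl)
        exacts [rfl, congrArg Subtype.val hc.eq, (congrArg Subtype.val hc.eq).symm, rfl])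
      (by
        rintro p (rfl | rfl) <;> exact CfsgLib.Involutions.mul_self_eq_one (by assumption))
    obtain ⟨g, hg⟩ := CfsgLib.Involutions.exists_conj_le_sylow hp T
    have hone : ∀ v : K, (v : G) ∈ ({(s : G), (t : G)} : Set G) → orderOf (v : G) = 2 →
        g * (v : G) * g⁻¹ = (w : G) := fun v hv hv2 => by
      refine congrArg Subtype.val (hKinv ⟨_, hg _ (subset_closure hv)⟩ (hKn.conj_mem _ v.2 g) ?_)
      rw [← Subgroup.orderOf_coe]
      exact (CfsgLib.Involutions.orderOf_conj_eq g _).trans hv2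
    have e := (hone s (by simp) hs).trans (hone t (by simp) ht).symm
    exact Subtype.ext (mul_left_cancel (mul_right_cancel e))
  have hZ := CfsgLib.Involutions.inZStar_of_rank_one huniqK (u := ⟨w, hwK⟩)
    (by rw [← Subgroup.orderOf_coe]; exact hwo')
  -- the quotient modulo the odd core
  set π := QuotientGroup.mk' (Cfsg.oddCore G) with hπ
  have hOK : (Cfsg.oddCore K).map K.subtype ≤ Cfsg.oddCore G :=
    le_oddCore inferInstance (by rw [Subgroup.card_subtype]; exact odd_card_oddCore)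
  have hwK' : ∀ k ∈ K, π k * π w = π w * π k := by
    intro k hk
    have h : k * (w : G) * k⁻¹ * (w : G)⁻¹ ∈ Cfsg.oddCore G :=
      hOK ⟨_, hZ ⟨k, hk⟩, rfl⟩
    have h' : π (k * (w : G) * k⁻¹ * (w : G)⁻¹) = 1 := (QuotientGroup.eq_one_iff _).2 h
    simp only [map_mul, map_inv] at h'
    calc π k * π w = π k * π w * (π k)⁻¹ * (π w)⁻¹ * (π w * π k) := by group
      _ = π w * π k := by rw [h', one_mul]
  have hwc : π w ∈ Subgroup.center (G ⧸ Cfsg.oddCore G) := by
    rw [Subgroup.mem_center_iff]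
    intro q
    obtain ⟨g, rfl⟩ := QuotientGroup.mk'_surjective (Cfsg.oddCore G) q
    by_cases hg : g ∈ K
    · exact hwK' g hg
    · have hgz : g * z ∈ K := (Subgroup.mul_mem_iff_of_index_two hK).2 (iff_of_false hg hzK)
      have h1 : π z * π w = π w * π z := by
        rw [← map_mul, ← map_mul, show z * (w : G) = (w : G) * z from congrArg Subtype.val (hwT z')]
      have h2 := hwK' _ hgz
      rw [map_mul] at h2
      rw [show (QuotientGroup.mk' (Cfsg.oddCore G)) g = π g from rfl]
      refine mul_right_cancel (b := π z) ?_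
      rw [mul_assoc, ← h1, ← mul_assoc, h2, mul_assoc]
  haveI : (zpowers (π w)).Normal := ⟨fun q hq g => by
    have hqc : q ∈ Subgroup.center (G ⧸ Cfsg.oddCore G) := zpowers_le.2 hwc hq
    rwa [Subgroup.mem_center_iff.1 hqc g, mul_inv_cancel_right]⟩
  have hTinj : ∀ t : (T : Subgroup G), π (t : G) = 1 → t = 1 := fun t ht =>
    Subtype.ext (eq_one_of_mem_oddCore T.2 t.2 ((QuotientGroup.eq_one_iff _).1 ht))
  have hwo2 : orderOf (π w) = 2 := orderOf_of_sq
    (by rw [← map_mul, CfsgLib.Involutions.mul_self_eq_one hwo', map_one])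
    (fun h => CfsgLib.Involutions.ne_one_of_involution hwo (hTinj w h))
  set σ := QuotientGroup.mk' (zpowers (π w)) with hσ
  set f := σ.comp π with hf
  have hfs : Function.Surjective f :=
    (QuotientGroup.mk'_surjective _).comp (QuotientGroup.mk'_surjective _)
  have hfker : ∀ t : (T : Subgroup G), f t = 1 → ∃ k : ℤ, t = w ^ k := by
    intro t ht
    obtain ⟨k, hk⟩ := (QuotientGroup.eq_one_iff _).1 (show σ (π (t : G)) = 1 from ht)
    refine ⟨k, ?_⟩
    apply mul_inv_eq_one.1
    apply hTinj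
    rw [Subgroup.coe_mul, Subgroup.coe_inv, Subgroup.coe_zpow, map_mul, map_inv, map_zpow,
      show (π (w : G)) ^ k = π (t : G) from hk, mul_inv_cancel]
  have hfw : f (w : G) = 1 :=
    (QuotientGroup.eq_one_iff _).2 (mem_zpowers (π (w : G)))
  set P := T.mapSurjective hfs with hP
  set fT : (T : Subgroup G) →* (G ⧸ Cfsg.oddCore G) ⧸ zpowers (π w) :=
    f.comp (T : Subgroup G).subtype with hfT
  have hPmap : (P : Subgroup _) = fT.range := by
    rw [hP, Sylow.coe_mapSurjective, hfT, MonoidHom.range_comp, Subgroup.range_subtype]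
  have hnotC : ∀ b : ℤ, fT (x ^ b * y) ∉ (zpowers x).map fT := by
    rintro b ⟨_, ⟨k, rfl⟩, h⟩
    obtain ⟨l, hl⟩ := hfker ((x ^ k)⁻¹ * (x ^ b * y)) (by
      show fT ((x ^ k)⁻¹ * (x ^ b * y)) = 1
      rw [map_mul, map_inv, h, inv_mul_cancel])
    apply SD.not_mem_y S b (k + 4 * r * l)
    rw [inv_mul_eq_iff_eq_mul] at hl
    rw [hl, zpow_add, hw, ← zpow_mul]
  have hform : ∀ p ∈ (P : Subgroup _), p ∉ (zpowers x).map fT → ∃ b : ℤ, fT (x ^ b * y) = p := by
    intro p hp hpC
    rw [hPmap] at hp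
    obtain ⟨t, rfl⟩ := hp
    obtain ⟨k, rfl | rfl⟩ := S.gen t
    · exact absurd (mem_map_of_mem fT (zpow_mem (mem_zpowers x) k)) hpC
    · exact ⟨k, rfl⟩
  have DP : DihData (P : Subgroup _) ((zpowers x).map fT) := by
    refine ⟨?_, ?_, P.2, ?_, ?_, ?_, ?_⟩
    · rw [hPmap]; exact map_le_range _ _
    · rw [MonoidHom.map_zpowers]; infer_instance
    · have hne : fT (x ^ (2 * r : ℤ)) ≠ 1 := by
        intro h
        obtain ⟨k, hk⟩ := hfker (x ^ (2 * r : ℤ)) h
        rw [hw, ← zpow_mul, SD.zpow_x_eq S] at hk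
        obtain ⟨c, hc⟩ := hk
        have : (2 * (r : ℤ)) * (2 * k - 1) = 2 * r * (4 * c) := by linarith
        have := mul_left_cancel₀ (by positivity) this
        omega
      have h2 : fT (x ^ (2 * r : ℤ)) * fT (x ^ (2 * r : ℤ)) = 1 := by
        rw [← map_mul, ← zpow_add, show (2 * r + 2 * r : ℤ) = 4 * r by ring]
        exact hfw
      have := Subgroup.orderOf_dvd_natCard ((zpowers x).map fT)
        (mem_map_of_mem fT (zpow_mem (mem_zpowers x) (2 * r : ℤ)))
      rwa [orderOf_of_sq h2 hne] at this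
    · intro p hp q hq hpC hqC
      obtain ⟨b, rfl⟩ := hform p hp hpC
      obtain ⟨c, rfl⟩ := hform q hq hqC
      rw [← map_mul, SD.xy_mul_xy S]
      exact mem_map_of_mem fT (zpow_mem (mem_zpowers x) _)
    · exact ⟨fT (x ^ (0 : ℤ) * y), by rw [hPmap]; exact ⟨_, rfl⟩, hnotC 0⟩
    · intro p hp hpC
      obtain ⟨b, rfl⟩ := hform p hp hpC
      rw [← map_mul, ← pow_two, SD.xy_sq S, zpow_mul, ← hw, map_zpow,
        show fT w = 1 from hfw, one_zpow]
  have hO : ∀ N : Subgroup ((G ⧸ Cfsg.oddCore G) ⧸ zpowers (π w)), N.Normal →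
      Odd (Nat.card N) → N = ⊥ := core_quotient_central hwc hwo2 core_quotient
  have hns' : ¬ Group.IsSolvable ((G ⧸ Cfsg.oddCore G) ⧸ zpowers (π w)) := by
    refine not_solvable_quotient _ ?_
      (not_solvable_quotient _ (CfsgLib.PF.oddSolvable _ odd_card_oddCore) hns)
    exact isSolvable_of_isPGroup (CfsgLib.Involutions.isPGroup_two_zpowers hwo2)
  have hzP : f z ∈ P := by
    show f z ∈ (P : Subgroup _)
    rw [hPmap]; exact ⟨z', rfl⟩
  have hzC : f z ∉ (zpowers x).map fT := by
    have h' : f z = fT z' := rfl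
    rw [h', hza]
    exact hnotC a
  have hzf : f z * f z = 1 := by rw [← map_mul, hz2, map_one]
  have hzo : orderOf (f z) = 2 := orderOf_of_sq hzf fun h => hzC (h ▸ one_mem _)
  -- the centralizer of the image of `z` has at most four elements
  set zb := π z with hzb
  set wb := π (w : G) with hwb
  set Dd := (centralizer ({σ zb} : Set ((G ⧸ Cfsg.oddCore G) ⧸ zpowers (π w)))).comap σ with hDd
  set Cz := centralizer ({zb} : Set (G ⧸ Cfsg.oddCore G)) with hCz
  have hwA : (w : G) ∉ A := by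
    intro h
    rcases huniq _ h (CfsgLib.Involutions.mul_self_eq_one hwo') with e | e
    · exact CfsgLib.Involutions.ne_one_of_involution hwo' e
    · exact hfuse 1 (by rw [one_mul, inv_one, mul_one, e])
  have hwH : (w : G) ∈ H := by
    rw [← hzH, mem_centralizer_singleton_iff]
    exact congrArg Subtype.val (hwT z').symm
  have hCz4 : Nat.card Cz ≤ 4 := by
    classical
    have hsub : (Cz : Set (G ⧸ Cfsg.oddCore G)) ⊆ ↑({1, zb, wb, wb * zb} : Finset (G ⧸ Cfsg.oddCore G)) := by
      intro q hq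
      obtain ⟨h, hh, rfl⟩ := centralizer_mk D hz hz2 hz1 q (mem_centralizer_singleton_iff.1 hq)
      have key : ∀ a' ∈ A, π a' = 1 ∨ π a' = zb := by
        intro a' ha'
        refine mk_cases huniq ha' ?_
        show π a' * π a' = 1
        have e := D.inverts hwH hwA ha'
        have e' : π (w : G) * π a' * π (w : G) = (π a')⁻¹ := by rw [← map_mul, ← map_mul, e, map_inv]
        rw [← (Subgroup.mem_center_iff.1 hwc (π a')), mul_assoc, ← map_mul π (w : G) (w : G),
          CfsgLib.Involutions.mul_self_eq_one hwo', map_one, mul_one] at e'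
        nth_rewrite 2 [e']
        exact mul_inv_cancel _
      simp only [Finset.coe_insert, Finset.coe_singleton, Set.mem_insert_iff, Set.mem_singleton_iff]
      by_cases hhA : h ∈ A
      · rcases key h hhA with e | e
        · exact Or.inl e
        · exact Or.inr (Or.inl e)
      · have hm := D.index_two hsq hwH hh hwA hhA
        have hh' : π h = π (w : G) * π ((w : G) * h) := by
          rw [← map_mul, ← mul_assoc, CfsgLib.Involutions.mul_self_eq_one hwo', one_mul]
        rcases key _ hm with e | e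
        · exact Or.inr (Or.inr (Or.inl (by
            show π h = wb
            rw [hh', e, mul_one])))
        · exact Or.inr (Or.inr (Or.inr (by
            show π h = wb * zb
            rw [hh', e])))
    have := Nat.card_mono (Finset.finite_toSet _) hsub
    refine le_trans this ?_
    rw [Nat.card_coe_set_eq, Set.ncard_coe_finset]
    exact Finset.card_le_four
  have hDdC : Nat.card Dd ≤ 2 * Nat.card Cz := by
    have hCD : Cz ≤ Dd := fun q hq => by
      rw [hDd, mem_comap, mem_centralizer_singleton_iff, ← map_mul, ← map_mul,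
        mem_centralizer_singleton_iff.1 hq]
    have hcase : ∀ q ∈ Dd, q ∉ Cz → q * zb = wb * zb * q := by
      intro q hq hqC
      rw [hDd, mem_comap, mem_centralizer_singleton_iff, ← map_mul, ← map_mul] at hq
      obtain ⟨k, hk⟩ := (QuotientGroup.eq (s := zpowers (π w))).1 hq.symm
      change wb ^ k = (zb * q)⁻¹ * (q * zb) at hk
      have hk' : q * zb = zb * q * wb ^ k := by rw [hk]; group
      have hwb2 : wb * wb = 1 := CfsgLib.Involutions.mul_self_eq_one hwo2
      rcases Int.even_or_odd k with ⟨l, rfl⟩ | ⟨l, rfl⟩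
      · rw [zpow_add, ← (Commute.refl wb).mul_zpow, hwb2, one_zpow, mul_one] at hk'
        exact absurd (mem_centralizer_singleton_iff.2 hk') hqC
      · rw [zpow_add_one, zpow_mul, zpow_two, hwb2, one_zpow, one_mul,
          Subgroup.mem_center_iff.1 hwc (zb * q), ← mul_assoc] at hk'
        exact hk'
    by_cases hle : Dd ≤ Cz
    · rw [le_antisymm hle hCD]; omega
    · obtain ⟨d0, hd0, hd0C⟩ := SetLike.not_le_iff_exists.1 hle
      have hidx : (Cz.subgroupOf Dd).index = 2 := by
        refine Subgroup.index_eq_two_iff.2 ⟨⟨d0, hd0⟩, fun b => ?_⟩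
        simp only [Subgroup.mem_subgroupOf, Subgroup.coe_mul]
        by_cases hb : (b : G ⧸ Cfsg.oddCore G) ∈ Cz
        · exact Or.inr ⟨hb, fun h => hd0C ((Cz.mul_mem_cancel_left hb).1 h)⟩
        · refine Or.inl ⟨mem_centralizer_singleton_iff.2 ?_, hb⟩
          rw [mul_assoc, hcase d0 hd0 hd0C, ← mul_assoc, ← mul_assoc,
            Subgroup.mem_center_iff.1 hwc (b : G ⧸ Cfsg.oddCore G), mul_assoc wb, hcase _ b.2 hb,
            ← mul_assoc, ← mul_assoc, CfsgLib.Involutions.mul_self_eq_one hwo2, one_mul, mul_assoc]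
      have := (Cz.subgroupOf Dd).card_mul_index
      rw [hidx, Nat.card_congr (Subgroup.subgroupOfEquivOfLe hCD).toEquiv] at this
      omega
  have hCM : Nat.card (centralizer ({f z} : Set ((G ⧸ Cfsg.oddCore G) ⧸ zpowers (π w)))) ≤ 4 := by
    have h := CfsgLib.PCore.card_comap_mk' (zpowers (π w))
      (centralizer ({σ zb} : Set ((G ⧸ Cfsg.oddCore G) ⧸ zpowers (π w))))
    rw [Nat.card_zpowers, hwo2] at h
    change Nat.card (centralizer ({σ zb} : Set ((G ⧸ Cfsg.oddCore G) ⧸ zpowers (π w)))) ≤ 4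
    rw [← hσ, ← hDd] at h
    omega
  -- so it is a four-group
  have hout : ∀ c, c * f z = f z * c → c ∉ zpowers (f z) → c * c = 1 := by
    intro c hc _
    obtain ⟨d, hdC, hd2, hd1, huniqC⟩ := DP.exists_c
    have hdz : d * f z = f z * d := (DP.central hdC hd2 hzP).symm
    have hne : d ≠ f z := fun h => hzC (h ▸ hdC)
    set V := closure ({d, f z} : Set ((G ⧸ Cfsg.oddCore G) ⧸ zpowers (π w))) with hV
    have hVle : V ≤ centralizer ({f z} : Set _) := by
      rw [hV, closure_le]
      rintro p (rfl | rfl)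
      · exact mem_centralizer_singleton_iff.2 hdz
      · exact mem_centralizer_singleton_iff.2 rfl
    have hVexp : ∀ p ∈ V, p * p = 1 := by
      intro p hp
      have hA : IsMulCommutative V := isMulCommutative_closure (by
        rintro u (rfl | rfl) v (rfl | rfl)
        exacts [rfl, hdz, hdz.symm, rfl])
      induction hp using Subgroup.closure_induction with
      | mem u hu => rcases hu with rfl | rfl <;> assumption
      | one => exact one_mul 1
      | mul u v hum hvm hu hv =>
        have huv : v * u = u * v := congrArg Subtype.val (hA.is_comm.comm (⟨v, hvm⟩ : V) ⟨u, hum⟩)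
        calc u * v * (u * v) = u * (v * u) * v := by group
          _ = u * u * (v * v) := by rw [huv]; group
          _ = 1 := by rw [hu, hv, one_mul]
      | inv u _ hu => rw [← mul_inv_rev, hu, inv_one]
    have hVcard : 4 ≤ Nat.card V := by
      rw [hV, CfsgLib.Involutions.card_closure_pair (orderOf_of_sq hd2 hd1) hzo,
        orderOf_of_sq (hVexp _ (mul_mem (subset_closure (by simp)) (subset_closure (by simp))))
          (fun h => hne ((eq_inv_of_mul_eq_one_left h).trans (inv_eq_of_sq hzf)))]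
    rw [← SetLike.mem_coe] at *
    refine hVexp c ?_
    rw [Subgroup.eq_of_le_of_card_ge hVle (hCM.trans hVcard)]
    exact mem_centralizer_singleton_iff.2 hc
  have hB : ∀ b ∈ zpowers (f z), b * b = 1 → b = 1 ∨ b = f z := by
    rintro _ ⟨k, rfl⟩ -
    show f z ^ k = 1 ∨ f z ^ k = f z
    rcases Int.even_or_odd k with ⟨l, rfl⟩ | ⟨l, rfl⟩
    · left; rw [zpow_add, ← (Commute.refl (f z)).mul_zpow, hzf, one_zpow]
    · right; rw [zpow_add_one, zpow_mul, zpow_two, hzf, one_zpow, one_mul]
  obtain ⟨F, _, _, -, -, -, hbig⟩ := psl_or_pgl hGW hns' hO P DP hzP hzo _ hout hB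
  have hOK' : ∀ g ∈ Cfsg.oddCore G, g ∈ K := by
    intro g hg
    obtain ⟨k, hk⟩ := odd_card_oddCore (G := G)
    have h1 : g ^ (2 * k + 1) = 1 := by
      rw [← hk]
      exact congrArg Subtype.val (pow_card_eq_one' (x := (⟨g, hg⟩ : Cfsg.oddCore G)))
    have h2 : g = (g ^ (k + 1)) * (g ^ (k + 1)) := by
      rw [← pow_add, show k + 1 + (k + 1) = 2 * k + 1 + 1 by ring, pow_succ, h1, one_mul]
    rw [h2]
    exact hKsq _
  have hker : f.ker ≤ K := by
    intro g hg
    obtain ⟨k, hk⟩ := (QuotientGroup.eq_one_iff _).1 (show σ (π g) = 1 from MonoidHom.mem_ker.1 hg)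
    have h1 : π (((w : G) ^ k)⁻¹ * g) = 1 := by
      rw [map_mul, map_inv, map_zpow, show π (w : G) ^ k = π g from hk, inv_mul_cancel]
    have h2 := mul_mem (zpow_mem hwK k) (hOK' _ ((QuotientGroup.eq_one_iff _).1 h1))
    rwa [mul_inv_cancel_left] at h2
  have hN : (K.map f).index = 2 := by
    rw [Subgroup.index_map_eq _ hfs hker, hK]
  have hzN : f z ∉ K.map f := by
    rintro ⟨k, hk, hkz⟩
    apply hzK
    have h1 : k⁻¹ * z ∈ K := hker (by rw [MonoidHom.mem_ker, map_mul, map_inv, hkz, inv_mul_cancel])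
    have h2 := mul_mem hk h1
    rwa [mul_inv_cancel_left] at h2
  have := hbig _ hN hzN
  omega

/-- A single central involution. -/
theorem rank_one_case (hGW : DihedralClassification.{u}) (D : DHyp H A)
    (hsq : ¬ ∀ x ∈ H, x * x = 1) {z : G} (hz : z ∈ A) (hz2 : z * z = 1) (hz1 : z ≠ 1)
    (huniq : ∀ b ∈ A, b * b = 1 → b = 1 ∨ b = z) (hns : ¬ Group.IsSolvable G) : Concl G := by
  classical
  haveI : Fact (Nat.Prime 2) := ⟨Nat.prime_two⟩
  have hzH := D.centralizer_eq hz hz2 hz1
  obtain ⟨S⟩ : Nonempty (Sylow 2 H) := inferInstance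
  obtain ⟨T, hT⟩ := (S.2.map H.subtype).exists_le_sylow
  have hconj : ∀ v ∈ H, v * v = 1 → v ≠ 1 → ∃ c ∈ H, c * v * c⁻¹ ∈ T := fun v hv hv2 hv1 => by
    obtain ⟨c, hc⟩ := CfsgLib.Involutions.exists_conj_le_sylow
      (CfsgLib.Involutions.isPGroup_two_zpowers (show orderOf (⟨v, hv⟩ : H) = 2 by
        rw [← Subgroup.orderOf_coe]; exact orderOf_of_sq hv2 hv1)) S
    exact ⟨c, c.2, hT ⟨_, hc _ (mem_zpowers _), rfl⟩⟩
  have hzT : z ∈ T := by
    obtain ⟨c, hc, hcT⟩ := hconj z (D.lt.le hz) hz2 hz1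
    rwa [D.central hz hz2 hc, mul_inv_cancel_right] at hcT
  obtain ⟨x0, hx0, hx0A⟩ := D.exists_out
  obtain ⟨x, hxH, hxT, hxA⟩ : ∃ x ∈ H, x ∈ T ∧ x ∉ A := by
    have hx01 : x0 ≠ 1 := fun h => hx0A (h ▸ one_mem A)
    obtain ⟨c, hc, hcT⟩ := hconj x0 hx0 (D.out x0 hx0 hx0A) hx01
    refine ⟨_, mul_mem (mul_mem hc hx0) (inv_mem hc), hcT, fun h => ?_⟩
    rcases huniq _ h (by
      rw [show c * x0 * c⁻¹ * (c * x0 * c⁻¹) = c * (x0 * x0) * c⁻¹ by group, D.out x0 hx0 hx0A]
      group) with e | e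
    · exact hx01 (conj_eq_one_iff.1 e)
    · exact hx0A (by
        have : x0 = c⁻¹ * (z * c) := by rw [← e]; group
        rw [this, ← D.central hz hz2 hc, inv_mul_cancel_left]
        exact hz)
  by_cases hTH : (T : Subgroup G) ≤ H
  · -- `A ∩ T` is cyclic
    set C := A ⊓ (T : Subgroup G) with hC
    have hcyc : IsCyclic C := by
      have hCp : IsPGroup 2 C := T.2.to_le inf_le_right
      have h1 : ∀ p q : C, orderOf p = 2 → orderOf q = 2 → p = q := by
        intro p q hp hq
        rw [← Subgroup.orderOf_coe] at hp hq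
        exact Subtype.ext (((huniq _ p.2.1 (CfsgLib.Involutions.mul_self_eq_one hp)).resolve_left
          (CfsgLib.Involutions.ne_one_of_involution hp)).trans
          ((huniq _ q.2.1 (CfsgLib.Involutions.mul_self_eq_one hq)).resolve_left
          (CfsgLib.Involutions.ne_one_of_involution hq)).symm)
      obtain ⟨g, -, hg⟩ := CfsgLib.TwoGroups.OneInvolution.exists_generator hCp h1 ⊤
        ⟨⟨fun p q => Subtype.ext (Subtype.ext (D.comm_A (p : C).2.1 (q : C).2.1))⟩⟩
      exact ⟨⟨g, fun p => Subgroup.mem_zpowers_iff.1 (hg ▸ mem_top p)⟩⟩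
    have DT : DihData (T : Subgroup G) C := by
      refine ⟨inf_le_right, hcyc, T.2, ?_, ?_, ⟨x, hxT, fun h => hxA h.1⟩, ?_⟩
      · have := Subgroup.orderOf_dvd_natCard C (⟨hz, hzT⟩ : z ∈ C)
        rwa [orderOf_of_sq hz2 hz1] at this
      · intro p hp q hq hpC hqC
        exact ⟨D.index_two hsq (hTH hp) (hTH hq) (fun h => hpC ⟨h, hp⟩) (fun h => hqC ⟨h, hq⟩),
          mul_mem hp hq⟩
      · intro p hp hpC
        exact D.out p (hTH hp) fun h => hpC ⟨h, hp⟩
    exact dihedral_case hGW hns D hz hz2 hz1 huniq T DT hzT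
  · -- `T ∩ H` is a self-centralizing four-group of `T`
    set X := H.subgroupOf (T : Subgroup G) with hX
    have hlt : X < ⊤ := lt_top_iff_ne_top.2 fun h => hTH (Subgroup.subgroupOf_eq_top.1 h)
    haveI := T.2.isNilpotent
    obtain ⟨g, hg, hgX⟩ := SetLike.exists_of_lt (Group.normalizerCondition_of_isNilpotent (G := (T : Subgroup G)) X hlt)
    set w := (g : G) * z * (g : G)⁻¹ with hw
    have hgmem : ∀ v : (T : Subgroup G), v ∈ X ↔ g * v * g⁻¹ ∈ X := Subgroup.mem_normalizer_iff.1 hg
    have hwH : w ∈ H :=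
      Subgroup.mem_subgroupOf.1 ((hgmem ⟨z, hzT⟩).1 (Subgroup.mem_subgroupOf.2 (D.lt.le hz)))
    have hw2 : w * w = 1 := by
      rw [hw, show (g : G) * z * (g : G)⁻¹ * ((g : G) * z * (g : G)⁻¹) = g * (z * z) * (g : G)⁻¹ by group,
        hz2]
      group
    have hw1 : w ≠ 1 := fun h => hz1 (conj_eq_one_iff.1 h)
    have hgnH : (g : G) ∉ H := fun h => hgX (Subgroup.mem_subgroupOf.2 h)
    have hwA : w ∉ A := by
      intro h
      rcases huniq w h hw2 with e | e
      · exact hw1 e
      · apply hgnH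
        rw [← hzH, mem_centralizer_singleton_iff]
        calc (g : G) * z = w * g := by rw [hw]; group
          _ = z * g := by rw [e]
    have hTA : ∀ a ∈ T, a ∈ A → a = 1 ∨ a = z := by
      intro a haT haA
      refine huniq a haA ?_
      have hpre : g⁻¹ * (⟨a, haT⟩ : (T : Subgroup G)) * g ∈ X := by
        rw [hgmem (g⁻¹ * (⟨a, haT⟩ : (T : Subgroup G)) * g),
          show g * (g⁻¹ * (⟨a, haT⟩ : (T : Subgroup G)) * g) * g⁻¹ = ⟨a, haT⟩ by group]
        exact Subgroup.mem_subgroupOf.2 (D.lt.le haA)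
      have hc : ((g : G)⁻¹ * a * g) * z = z * ((g : G)⁻¹ * a * g) := by
        have := Subgroup.mem_subgroupOf.1 hpre
        rw [← hzH, mem_centralizer_singleton_iff] at this
        exact this
      have hcw : a * w = w * a := by
        calc a * w = (g : G) * (((g : G)⁻¹ * a * g) * z) * (g : G)⁻¹ := by rw [hw]; group
          _ = w * a := by rw [hc, hw]; group
      have e := D.inverts hwH hwA haA
      rw [← hcw, mul_assoc, hw2, mul_one] at e
      nth_rewrite 2 [e]
      exact mul_inv_cancel a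
    have hwT : w ∈ T := (g * ⟨z, hzT⟩ * g⁻¹ : (T : Subgroup G)).2
    have hTH4 : ∀ v ∈ T, v ∈ H → v = 1 ∨ v = z ∨ v = w ∨ v = w * z := by
      intro v hvT hvH
      by_cases hvA : v ∈ A
      · rcases hTA v hvT hvA with e | e
        · exact Or.inl e
        · exact Or.inr (Or.inl e)
      · rcases hTA (w * v) ((T : Subgroup G).mul_mem hwT hvT) (D.index_two hsq hwH hvH hwA hvA) with e | e
        · exact Or.inr (Or.inr (Or.inl (((eq_inv_of_mul_eq_one_right e).trans (inv_eq_of_sq hw2)))))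
        · exact Or.inr (Or.inr (Or.inr (by rw [← e, ← mul_assoc, hw2, one_mul])))
    have hzw : z ≠ w := fun h => hwA (h ▸ hz)
    have hX4 : Nat.card X = 2 ^ 2 := by
      rw [hX, ← Subgroup.inf_subgroupOf_right,
        Nat.card_congr (Subgroup.subgroupOfEquivOfLe inf_le_right).toEquiv]
      have hset : ((H ⊓ (T : Subgroup G) : Subgroup G) : Set G) = ↑({1, z, w, w * z} : Finset G) := by
        ext v
        simp only [SetLike.mem_coe, Subgroup.mem_inf, Finset.coe_insert, Finset.coe_singleton,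
          Set.mem_insert_iff, Set.mem_singleton_iff]
        constructor
        · exact fun h => hTH4 v h.2 h.1
        · rintro (rfl | rfl | rfl | rfl)
          · exact ⟨one_mem H, (T : Subgroup G).one_mem⟩
          · exact ⟨D.lt.le hz, hzT⟩
          · exact ⟨hwH, hwT⟩
          · exact ⟨mul_mem hwH (D.lt.le hz), (T : Subgroup G).mul_mem hwT hzT⟩
      rw [← SetLike.coe_sort_coe, hset, Nat.card_coe_set_eq, Set.ncard_coe_finset]
      have h1 : w * z ≠ 1 := fun h =>
        hzw ((eq_inv_of_mul_eq_one_left h).trans (inv_eq_of_sq hz2)).symm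
      have h2 : z ≠ w * z := fun h => hw1 (mul_eq_right.1 h.symm)
      have h3 : w ≠ w * z := fun h => hz1 (mul_eq_left.1 h.symm)
      simp [Ne.symm hz1, Ne.symm hw1, Ne.symm h1, hzw, h2, h3]
    have hXc : centralizer (X : Set (T : Subgroup G)) = X := by
      refine le_antisymm (fun v hv => ?_) (fun v hv => mem_centralizer_iff.2 fun u hu => ?_)
      · rw [hX, Subgroup.mem_subgroupOf, ← hzH, mem_centralizer_singleton_iff]
        exact (congrArg Subtype.val
          (mem_centralizer_iff.1 hv ⟨z, hzT⟩ (Subgroup.mem_subgroupOf.2 (D.lt.le hz)))).symm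
      · have hsq4 : ∀ p ∈ T, p ∈ H → p * p = 1 := by
          intro p hpT hpH
          rcases hTH4 p hpT hpH with rfl | rfl | rfl | rfl
          · exact one_mul 1
          · exact hz2
          · exact hw2
          · rw [show w * z * (w * z) = w * (z * w) * z by group, ← D.central hz hz2 hwH]
            calc w * (w * z) * z = (w * w) * (z * z) := by group
              _ = 1 := by rw [hw2, hz2, one_mul]
        apply Subtype.ext
        have hu2 := hsq4 _ (u : (T : Subgroup G)).2 hu
        have hv2 := hsq4 _ (v : (T : Subgroup G)).2 hv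
        have huv := hsq4 _ (u * v).2 (mul_mem hu hv)
        show (u : G) * v = v * u
        rw [Subgroup.coe_mul] at huv
        calc (u : G) * v = ((u : G) * v)⁻¹ := eq_inv_of_mul_eq_one_left huv
          _ = v * u := by rw [mul_inv_rev, inv_eq_of_sq hu2, inv_eq_of_sq hv2]
    obtain ⟨n, hn⟩ := T.2.exists_card_eq
    have hn3 : 3 ≤ n := by
      have h1 : Nat.card X < Nat.card (T : Subgroup G) := by
        rw [← Subgroup.card_top (G := (T : Subgroup G))]
        refine lt_of_le_of_ne (Nat.le_of_dvd Nat.card_pos (Subgroup.card_dvd_of_le le_top)) fun h => ?_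
        exact hlt.ne (Subgroup.eq_of_le_of_card_ge le_top h.ge)
      rw [hX4, hn] at h1
      exact (Nat.pow_lt_pow_iff_right one_lt_two).1 h1
    have hclass := CfsgLib.MaxClass.class_of_selfCentralizing (p := 2) n _ hn X hX4 hXc
    rcases CfsgLib.TwoGroups85.isDSQ_of_maximalClass hn3 hn hclass with
      ⟨k, ⟨e⟩⟩ | ⟨k, hk, a, b, ha, hb, hrel⟩ | ⟨k, ⟨e⟩⟩
    · obtain ⟨C, DT⟩ := dihData_of_equiv T.2
        (show 2 ≤ 2 ^ (k + 2) from le_self_pow₀ one_le_two (by omega)) e
      exact dihedral_case hGW hns D hz hz2 hz1 huniq T DT hzT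
    · exfalso
      obtain ⟨r, p, q, S'⟩ := CfsgLib.TwoGroups.SD.exists_sd
        (⟨k + 3, by omega, by rw [hk], a, b, ha, hb, by rw [show k + 3 - 1 = k + 2 by omega]; exact hrel⟩ :
          Cfsg.IsQuasiDihedral (T : Subgroup G))
      refine semidihedral_case hGW hns D hz hz2 hz1 huniq hsq ?_ T hzT S'
      intro h8
      -- the Sylow subgroup of `H` is inside `T ∩ H`
      have h1 : Nat.card (S : Subgroup H) ∣ 4 := by
        rw [← Subgroup.card_subtype H (S : Subgroup H), show (4 : ℕ) = Nat.card X by rw [hX4]; rfl, hX,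
          ← Subgroup.inf_subgroupOf_right,
          Nat.card_congr (Subgroup.subgroupOfEquivOfLe (inf_le_right : H ⊓ (T : Subgroup G) ≤ T)).toEquiv]
        exact Subgroup.card_dvd_of_le (le_inf (Subgroup.map_subtype_le _) hT)
      have h2 : 8 ∣ Nat.card (S : Subgroup H) := S.pow_dvd_card_of_pow_dvd_card (n := 3) h8
      exact absurd (Nat.le_of_dvd (by norm_num) (h2.trans h1)) (by norm_num)
    · exfalso
      haveI : NeZero (2 ^ (k + 1)) := ⟨by positivity⟩
      have hne : ∀ v : (T : Subgroup G), (v : G) * v = 1 → (v : G) ≠ 1 → e v * e v = 1 ∧ e v ≠ 1 := by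
        intro v h1 h2
        exact ⟨by rw [← map_mul, show v * v = 1 from Subtype.ext h1, map_one],
          fun h => h2 (congrArg Subtype.val (e.map_eq_one_iff.1 h))⟩
      obtain ⟨h1, h2⟩ := hne ⟨z, hzT⟩ hz2 hz1
      obtain ⟨h3, h4⟩ := hne ⟨w, hwT⟩ hw2 hw1
      exact hzw (congrArg Subtype.val (e.injective (quaternion_involution h1 h2 h3 h4)))

end CfsgLib.DGroup
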