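import Mathlib
import Cfsg.Agent.Lib.DGroup.RankOne

/-!
`PSL₂`/`PGL₂` quotients from a D-group that is the centralizer of its central involutions, given
the classification of perfect groups with dihedral Sylow 2-subgroups.
-/

set_option autoImplicit false

namespace CfsgLib.DGroup

open Subgroup
open CfsgLib.GWCons.RankOneCover (DihedralClassification)

universe u

/-- The theorem, from the classification of perfect groups with dihedral Sylow 2-subgroups. -/
theorem main (hGW : DihedralClassification.{u}) {G : Type u} [Group G] [Finite G] (H A : Subgroup G)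
    (hAH : A < H) (hD : ∀ x ∈ H, x ∉ A → x ^ 2 = 1) (h4 : 4 ∣ Nat.card ↥H)
    (hC : ∀ j ∈ H, orderOf j = 2 → (∀ h ∈ H, h * j = j * h) →
      Subgroup.centralizer ({j} : Set G) = H)
    (hns : ¬ Group.IsSolvable G) : Concl G := by
  haveI : Fact (Nat.Prime 2) := ⟨Nat.prime_two⟩
  have D : DHyp H A := ⟨hAH, fun x hx hxA => by rw [← pow_two]; exact hD x hx hxA, h4, hC⟩
  by_cases hsq : ∀ x ∈ H, x * x = 1
  · exact elementary_case D hsq hns
  -- `A` contains an involution
  obtain ⟨x, hx, hxA⟩ := D.exists_out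
  have hidx : (A.subgroupOf H).index = 2 := by
    refine Subgroup.index_eq_two_iff.2 ⟨⟨x, hx⟩, fun b => ?_⟩
    simp only [Subgroup.mem_subgroupOf, Subgroup.coe_mul]
    by_cases hb : (b : G) ∈ A
    · exact Or.inr ⟨hb, fun h => hxA ((A.mul_mem_cancel_left hb).1 h)⟩
    · exact Or.inl ⟨D.index_two hsq b.2 hx hb hxA, hb⟩
  have heven : 2 ∣ Nat.card A := by
    have h := (A.subgroupOf H).card_mul_index
    rw [hidx, Nat.card_congr (Subgroup.subgroupOfEquivOfLe hAH.le).toEquiv] at h
    obtain ⟨k, hk⟩ := h4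
    exact ⟨k, by omega⟩
  obtain ⟨z, hz⟩ := exists_prime_orderOf_dvd_card' (G := A) 2 heven
  rw [← Subgroup.orderOf_coe] at hz
  have hz2 := CfsgLib.Involutions.mul_self_eq_one hz
  have hz1 := CfsgLib.Involutions.ne_one_of_involution hz
  by_cases huniq : ∀ b ∈ A, b * b = 1 → b = 1 ∨ b = z
  · exact rank_one_case hGW D hsq z.2 hz2 hz1 huniq hns
  · push Not at huniq
    obtain ⟨b, hb, hb2, hb1, hbz⟩ := huniq
    exact rank_two_case D hsq z.2 hb hz2 hb2 hz1 hb1 hbz.symm hns

end CfsgLib.DGroup
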